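import Groth.Agent.W7Pencil.Theory
import Groth.Agent.W7Cover.DoubleCover
import Groth.Agent.CurveVA.Criterion

/-!
# The pencil of a double cover of the line
-/

set_option autoImplicit false
set_option linter.style.haveILetI false
set_option backward.isDefEq.respectTransparency false

universe u

open CategoryTheory CategoryTheory.Limits AlgebraicGeometry TopologicalSpace
open Groth.Agent Groth.Agent.CohFinite Groth.Agent.CurveRR
open Groth.Agent.QC (res resO)

noncomputable section

namespace Groth.Agent.W7Pencil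

attribute [local instance] secMod Curv2.stalkAlgebra

variable {k : Type u} [Field k]

theorem X_mem_one (i : Fin 2) : MvPolynomial.X i ∈ CohB1.polyGrading 1 k 1 := MvPolynomial.isHomogeneous_X k i

theorem genericPoint_mem_chart [IsIntegral (CohB1.ProjSpace 1 k)] (i : Fin 2) :
    genericPoint (CohB1.ProjSpace 1 k) ∈ CycDeg.chartU k i := by
  refine ((genericPoint_spec _).mem_open_set_iff (Opens.isOpen _)).mpr ?_
  obtain ⟨e, -, -⟩ := CycDeg.exists_chart_coord k i
  have hU := CycDeg.isAffineOpen_chartU k i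
  haveI : Nontrivial Γ(CycDeg.P1 k, CycDeg.chartU k i) := e.toEquiv.nontrivial
  exact ⟨_, trivial, (hU.isoSpec.inv (Classical.arbitrary (PrimeSpectrum Γ(CycDeg.P1 k, CycDeg.chartU k i)))).2⟩

variable {X : Scheme.{u}} [IsIntegral X]

variable [IsIntegral (CohB1.ProjSpace 1 k)]

theorem genericPoint_mem_preimage (f : X ⟶ CohB1.ProjSpace 1 k)
    (e : f (genericPoint X) = genericPoint (CohB1.ProjSpace 1 k)) (i : Fin 2) :
    genericPoint X ∈ f ⁻¹ᵁ CycDeg.chartU k i := by
  show f (genericPoint X) ∈ CycDeg.chartU k i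
  rw [e]
  exact genericPoint_mem_chart i

/-- The pencil of a finite map to the line. -/
def pencilOf (f : X ⟶ CohB1.ProjSpace 1 k) [IsFinite f]
    (e : f (genericPoint X) = genericPoint (CohB1.ProjSpace 1 k)) : Pencil (CurveVA.O1 f) where
  s0 := ProjMor.pull1 f (X_mem_one (k := k) 0)
  s1 := ProjMor.pull1 f (X_mem_one (k := k) 1)
  U0 := f ⁻¹ᵁ CycDeg.chartU k 0
  U1 := f ⁻¹ᵁ CycDeg.chartU k 1
  gen0 := ProjMor.isGen_pull1 (ProjMor.genDegOne_projSpace 1 k) f _ le_rfl
  gen1 := ProjMor.isGen_pull1 (ProjMor.genDegOne_projSpace 1 k) f _ le_rfl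
  cover := fun x _ => (CycDeg.mem_chartU_cases k (f x)).imp id id
  t := (f.app (CycDeg.chartU k 0)).hom (CycDeg.coord k 0)
  rel := by
    refine (ProjMor.res_pull1 f (X_mem_one (k := k) 0) (X_mem_one (k := k) 1) le_rfl).trans ?_
    rw [← Scheme.Hom.appLE_eq_app]
    rfl
  t1 := (f.app (CycDeg.chartU k 1)).hom (CycDeg.coord k 1)
  rel1 := by
    refine (ProjMor.res_pull1 f (X_mem_one (k := k) 1) (X_mem_one (k := k) 0) le_rfl).trans ?_
    rw [← Scheme.Hom.appLE_eq_app]
    rfl
  loc0 := (ProjMor.genLocus_pull1 (ProjMor.genDegOne_projSpace 1 k) f _).symm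
  aff0 := (CycDeg.isAffineOpen_chartU k 0).preimage f
  aff1 := (CycDeg.isAffineOpen_chartU k 1).preimage f
  mem0 := genericPoint_mem_preimage f e 0
  mem1 := genericPoint_mem_preimage f e 1

variable [X.Over (Spec (CommRingCat.of k))] [IsProper (X ↘ Spec (CommRingCat.of k))]
  (f : X ⟶ CohB1.ProjSpace 1 k) [IsFinite f]

theorem eval₂_eq_comp (hf : f ≫ CohB1.ProjSpace.toSpec 1 k = X ↘ Spec (CommRingCat.of k))
    (e : f (genericPoint X) = genericPoint (CohB1.ProjSpace 1 k))
    (E : Γ(CycDeg.P1 k, CycDeg.chartU k 0) ≃+* Polynomial k)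
    (hE : ∀ c, E (resO (CycDeg.P1 k) le_top (ProjUP.toGlobal (CycDeg.str k) c)) = Polynomial.C c)
    (hEX : E (CycDeg.coord k 0) = Polynomial.X) :
    Polynomial.eval₂RingHom (cst k X (pencilOf f e).U0) (pencilOf f e).t =
      (f.app (CycDeg.chartU k 0)).hom.comp E.symm.toRingHom := by
  refine Polynomial.ringHom_ext (fun c => ?_) ?_
  · rw [Polynomial.coe_eval₂RingHom, Polynomial.eval₂_C]
    show cst k X _ c = (f.app (CycDeg.chartU k 0)).hom (E.symm (Polynomial.C c))
    rw [← hE c, E.symm_apply_apply]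
    exact (CurveVA.app_cst f hf (CycDeg.chartU k 0) c).symm
  · rw [Polynomial.coe_eval₂RingHom, Polynomial.eval₂_X]
    show (pencilOf f e).t = (f.app (CycDeg.chartU k 0)).hom (E.symm Polynomial.X)
    rw [← hEX, E.symm_apply_apply]
    rfl

theorem deg_O1_of_cover (hdim : topologicalKrullDim X = 1)
    (hf : f ≫ CohB1.ProjSpace.toSpec 1 k = X ↘ Spec (CommRingCat.of k)) :
    f (genericPoint X) = genericPoint (CohB1.ProjSpace 1 k) ∧
      Curv2.deg k X (CurveVA.O1 f) 1 = f.residueDegree (genericPoint X) := by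
  haveI := isNoetherian_of_proper k X
  haveI := ProjMor.isProper_toSpec 1 k
  haveI : IsProper (CohB1.ProjSpace 1 k ↘ Spec (CommRingCat.of k)) := ProjMor.isProper_toSpec 1 k
  have hd : topologicalKrullDim (CohB1.ProjSpace 1 k) ≤ 1 := (Groth.Agent.S10829.result k 1).le
  have hfib : ∀ y : CohB1.ProjSpace 1 k, IsClosed ({y} : Set (CohB1.ProjSpace 1 k)) →
      genericPoint X ∉ f ⁻¹' {y} := fun y hy hmem => by
    have h1 : (f ⁻¹' {y} : Set X) = Set.univ :=
      Set.eq_univ_of_forall fun z => (genericPoint_specializes z).mem_closed (hy.preimage f.continuous) hmem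
    have h2 := f.isDiscrete_preimage_singleton y
    rw [h1] at h2
    haveI : DiscreteTopology X := isDiscrete_univ_iff.mp h2
    have h3 := topologicalKrullDim_zero_of_discreteTopology X
    rw [hdim] at h3
    exact absurd h3 (by norm_num)
  have e : f (genericPoint X) = genericPoint (CohB1.ProjSpace 1 k) := by
    by_contra hne
    exact hfib _ (W7Cover.isClosed_of_ne_genericPoint (CohB1.ProjSpace.toSpec 1 k) hd hne) rfl
  have hgen : ∀ x', f x' = f (genericPoint X) → x' = genericPoint X := fun x' hx' => by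
    by_contra hne
    have hc := f.isClosedMap _ (CurveVA.isClosed_singleton_of_ne_generic (k := k) hdim hne)
    rw [Set.image_singleton] at hc
    exact hfib _ hc hx'.symm
  refine ⟨e, ?_⟩
  have h1 := DualGeneric.deg_pullback k hdim.le hd f hf e hfib hgen
    (isFinLocFreeOfRank_one (CohFinite.isInvertible_twist 1 k 1))
  rw [show Curv2.deg k (CohB1.ProjSpace 1 k) (Twist.twistProjSpace 1 k 1) 1 = 1 from W7Cover.deg_twist_one,
    mul_one] at h1
  exact h1

theorem hyper_of_cover [Smooth (X ↘ Spec (CommRingCat.of k))] (hdim : topologicalKrullDim X = 1)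
    (h0 : h k (Coh.structureModule X) 0 = 1) {g : ℕ} (hg : Curv2.genus k X = g)
    (hf : f ≫ CohB1.ProjSpace.toSpec 1 k = X ↘ Spec (CommRingCat.of k))
    (e : f (genericPoint X) = genericPoint (CohB1.ProjSpace 1 k))
    (hr : f.residueDegree (genericPoint X) = 2) : Hyper k (pencilOf f e) g := by
  obtain ⟨E, hE, hEX⟩ := CycDeg.exists_chart_coord k 0
  have hcomp := eval₂_eq_comp f hf e E hE hEX
  have hL : PicF.IsInvertible (CurveVA.O1 f) := CurveVA.isInvertible_O1 f
  refine ⟨hL, h0, ?_, fun m hm => ?_, ?_, fun x => ?_⟩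
  · refine transcendental_iff_injective.mpr ?_
    have h1 : (Polynomial.aeval (R := k) (pencilOf f e).T : Polynomial k → X.functionField) =
        gm (pencilOf f e).mem0 ∘ (f.app (CycDeg.chartU k 0)).hom ∘ E.symm := by
      funext p
      rw [aeval_eq_gm, hcomp]
      rfl
    rw [h1]
    exact (gm_injective _).comp
      ((W7Cover.app_injective f e _ (genericPoint_mem_chart 0)).comp E.symm.injective)
  · have hd : Curv2.deg k X (CohB1.tensorPow (CurveVA.O1 f) m) 1 = 2 * m := by
      rw [deg_tensorPow hdim.le hL, (deg_O1_of_cover f hdim hf).2, hr]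
      push_cast
      ring
    have h1 := h0_eq_of_deg hdim.le h0 (TMul.isInvertible_tensorPow hL m) (by omega)
    omega
  · rw [hcomp]
    refine RingHom.IsIntegral.trans _ _ (RingHom.IsIntegral.of_finite ?_) ?_
    · exact RingHom.Finite.of_surjective _ E.symm.surjective
    · exact RingHom.IsIntegral.of_finite (f.finite_app _ (CycDeg.isAffineOpen_chartU k 0))
  · haveI := SmLocalST.isRegularLocalRing_stalk_of_smooth_field (X ↘ Spec (CommRingCat.of k)) x
    exact RegLoc.isIntegrallyClosed

end Groth.Agent.W7Pencil
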