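import Groth.Agent.W7Pencil.Cover

/-!
# The function field of a double cover of the line
-/

set_option autoImplicit false
set_option linter.style.haveILetI false
set_option backward.isDefEq.respectTransparency false

universe u

open CategoryTheory CategoryTheory.Limits AlgebraicGeometry TopologicalSpace
open Groth.Agent Groth.Agent.CohFinite Groth.Agent.CurveRR

noncomputable section

namespace Groth.Agent.W7Pencil

attribute [local instance] secMod Curv2.stalkAlgebra

variable {k : Type u} [Field k] {X : Scheme.{u}} [IsIntegral X] [X.Over (Spec (CommRingCat.of k))]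
  [IsProper (X ↘ Spec (CommRingCat.of k))]

theorem residueDegree_of_finrank [IsIntegral (CohB1.ProjSpace 1 k)] (f : X ⟶ CohB1.ProjSpace 1 k) [IsFinite f]
    [Flat f] (hdim : topologicalKrullDim X = 1)
    (hf : f ≫ CohB1.ProjSpace.toSpec 1 k = X ↘ Spec (CommRingCat.of k))
    (hrk : ∀ y : CohB1.ProjSpace 1 k, Scheme.Hom.finrank f y = 2) :
    f.residueDegree (genericPoint X) = 2 := by
  haveI := isNoetherian_of_proper k X
  obtain ⟨e, -⟩ := deg_O1_of_cover f hdim hf
  have hgen : ∀ x', f x' = f (genericPoint X) → x' = genericPoint X := fun x' hx' => by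
    by_contra hne
    have hc := f.isClosedMap _ (CurveVA.isClosed_singleton_of_ne_generic (k := k) hdim hne)
    rw [Set.image_singleton, hx', e] at hc
    haveI : IsProper (CohB1.ProjSpace 1 k ↘ Spec (CommRingCat.of k)) := ProjMor.isProper_toSpec 1 k
    exact CurveRR.genericPoint_ne_of_closed (k := k) (Groth.Agent.S10829.result k 1) hc rfl
  have h := hrk (genericPoint (CohB1.ProjSpace 1 k))
  rw [W7Cover.finrank_eq_stalk, DualGeneric.finrank_push_generic f f.isClosedMap e hgen] at h
  exact h

variable {L : X.Modules} {P : Pencil L} {g : ℕ}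

open IntermediateField in
/-- The function field is quadratic over the rational functions in `T`. -/
theorem Hyper.adjoin_facts (H : Hyper k P g) {y : X.functionField} (hy : y ∈ P.space k (g + 1))
    (hy' : y ∉ P.polys k (g + 1)) :
    IntermediateField.adjoin k ({P.T, y} : Set X.functionField) = ⊤ ∧
      Module.finrank (IntermediateField.adjoin k ({P.T} : Set X.functionField)) X.functionField = 2 := by
  let F := IntermediateField.adjoin k ({P.T} : Set X.functionField)
  have hT : ∀ p : Polynomial k, Polynomial.aeval P.T p ∈ F := fun p => by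
    rw [show P.T = ((⟨P.T, subset_adjoin k _ rfl⟩ : F) : X.functionField) from rfl, IntermediateField.aeval_coe]
    exact SetLike.coe_mem _
  let E := IntermediateField.adjoin k ({P.T, y} : Set X.functionField)
  have hFE : F ≤ E := IntermediateField.adjoin.mono k _ _ (by simp)
  have htop : E = ⊤ := by
    refine eq_top_iff.mpr fun z _ => ?_
    haveI : Nonempty P.U0 := ⟨⟨_, P.mem0⟩⟩
    letI : Algebra Γ(X, P.U0) X.functionField := (gm P.mem0).toAlgebra
    haveI : IsFractionRing Γ(X, P.U0) X.functionField :=
      functionField_isFractionRing_of_isAffineOpen X P.U0 P.aff0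
    obtain ⟨a, c, -, rfl⟩ := IsFractionRing.div_surjective Γ(X, P.U0) z
    have hmem : ∀ a, gm P.mem0 a ∈ E := fun a => by
      obtain ⟨p, q, h⟩ := H.exists_normal_form_sections hy hy' a
      rw [h]
      exact add_mem (hFE (hT p)) (mul_mem (hFE (hT q)) (subset_adjoin k _ (by simp)))
    exact div_mem (hmem a) (hmem c)
  refine ⟨htop, ?_⟩
  obtain ⟨p, q, -, -, h⟩ := H.exists_equation hy hy'
  have hyF : y ∉ F := by
    intro hyF
    obtain ⟨r, s, hrs⟩ := (mem_adjoin_simple_iff k y).mp hyF
    by_cases hs : s = 0
    · rw [hs, map_zero, div_zero] at hrs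
      exact hy' (hrs ▸ zero_mem _)
    · refine H.notMem_range hy hy' (p := r) hs ?_
      rw [hrs]
      exact mul_div_cancel₀ _ ((map_ne_zero_iff _ H.aeval_injective).mpr hs)
  let eq : Polynomial F := Polynomial.X ^ 2 + Polynomial.C ⟨_, hT q⟩ * Polynomial.X + Polynomial.C (-⟨_, hT p⟩)
  have hmon : eq.Monic := by simp only [eq]; monicity!
  have hroot : Polynomial.aeval y eq = 0 := by
    simp only [eq, map_add, map_mul, Polynomial.aeval_X_pow, Polynomial.aeval_X, Polynomial.aeval_C, map_neg]
    show y ^ 2 + Polynomial.aeval P.T q * y + -Polynomial.aeval P.T p = 0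
    linear_combination h
  have hint : _root_.IsIntegral F y := ⟨eq, hmon, hroot⟩
  have hle : (minpoly F y).natDegree ≤ 2 :=
    (Polynomial.natDegree_le_natDegree (minpoly.min F y hmon hroot)).trans
      (by simp only [eq]; compute_degree!)
  have hge : 2 ≤ (minpoly F y).natDegree := (minpoly.two_le_natDegree_iff hint).mpr fun ⟨w, hw⟩ => hyF (by
    rw [← hw]; exact w.2)
  have hFy : IntermediateField.adjoin F ({y} : Set X.functionField) = ⊤ := by
    refine restrictScalars_injective k ?_
    rw [adjoin_adjoin_left, restrictScalars_top, ← htop]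
    exact congrArg (IntermediateField.adjoin k) (by simp [Set.pair_comm])
  rw [← finrank_top', ← hFy, IntermediateField.adjoin.finrank hint]
  omega

/-- Separability of the function field over the rational functions in the coordinate. -/
theorem isSeparable_adjoin [IsIntegral (CohB1.ProjSpace 1 k)] (f : X ⟶ CohB1.ProjSpace 1 k) [IsFinite f]
    (hf : f ≫ CohB1.ProjSpace.toSpec 1 k = X ↘ Spec (CommRingCat.of k))
    (e : f (genericPoint X) = genericPoint (CohB1.ProjSpace 1 k))
    (hsep : letI := (f.residueFieldMap (genericPoint X)).hom.toAlgebra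
      Algebra.IsSeparable ((CohB1.ProjSpace 1 k).residueField (f (genericPoint X)))
        (X.residueField (genericPoint X))) :
    Algebra.IsSeparable (IntermediateField.adjoin k ({(pencilOf f e).T} : Set X.functionField))
      X.functionField := by
  let Y := CohB1.ProjSpace 1 k
  let U := CycDeg.chartU k 0
  have hηU : f (genericPoint X) ∈ U := genericPoint_mem_preimage f e 0
  obtain ⟨E, hE, hEX⟩ := CycDeg.exists_chart_coord k 0
  have hcomp := eval₂_eq_comp f hf e E hE hEX
  let σ : Y.presheaf.stalk (f (genericPoint X)) →+* X.functionField := (f.stalkMap (genericPoint X)).hom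
  let τ : Γ(Y, U) →+* Y.presheaf.stalk (f (genericPoint X)) := (Y.presheaf.germ U _ hηU).hom
  have hst : ∀ a, σ (τ a) = Polynomial.aeval (pencilOf f e).T (E a) := fun a => by
    rw [aeval_eq_gm, hcomp]
    show _ = gm (pencilOf f e).mem0 ((f.app U).hom (E.symm (E a)))
    rw [E.symm_apply_apply]
    exact congr($(Scheme.Hom.germ_stalkMap f U (genericPoint X) hηU) a)
  letI : Field (Y.presheaf.stalk (f (genericPoint X))) := IsField.toField (by
    rw [e]; exact Field.toIsField Y.functionField)
  letI := τ.toAlgebra
  haveI : IsFractionRing Γ(Y, U) (Y.presheaf.stalk (f (genericPoint X))) :=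
    W7Cover.isFractionRing_germ (CycDeg.isAffineOpen_chartU k 0) e hηU
  let F := IntermediateField.adjoin k ({(pencilOf f e).T} : Set X.functionField)
  have hT : ∀ p : Polynomial k, Polynomial.aeval (pencilOf f e).T p ∈ F := fun p => by
    rw [show (pencilOf f e).T = ((⟨_, IntermediateField.subset_adjoin k _ rfl⟩ : F) : X.functionField) from rfl,
      IntermediateField.aeval_coe]
    exact SetLike.coe_mem _
  have hmem : ∀ w, σ w ∈ F := fun w => by
    obtain ⟨a, c, -, rfl⟩ := IsFractionRing.div_surjective Γ(Y, U) w
    rw [map_div₀]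
    exact div_mem (by rw [RingHom.algebraMap_toAlgebra, hst]; exact hT _)
      (by rw [RingHom.algebraMap_toAlgebra, hst]; exact hT _)
  let S : IntermediateField k X.functionField :=
    { σ.fieldRange with
      algebraMap_mem' := fun c => ⟨τ (E.symm (Polynomial.C c)), by
        rw [hst, E.apply_symm_apply, Polynomial.aeval_C]⟩ }
  have hFS : F ≤ S := IntermediateField.adjoin_le_iff.mpr (Set.singleton_subset_iff.mpr
    ⟨τ (E.symm Polynomial.X), by rw [hst, E.apply_symm_apply, Polynomial.aeval_X]⟩)
  let σ' : Y.presheaf.stalk (f (genericPoint X)) ≃+* F :=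
    RingEquiv.ofBijective (σ.codRestrict F hmem) ⟨fun a b h => RingHom.injective σ (congrArg Subtype.val h),
      fun w => by
        obtain ⟨v, hv⟩ := hFS w.2
        exact ⟨v, Subtype.ext hv⟩⟩
  let r1 : Y.presheaf.stalk (f (genericPoint X)) ≃+* Y.residueField (f (genericPoint X)) :=
    RingEquiv.ofBijective (Y.residue _).hom ⟨RingHom.injective _, Y.residue_surjective _⟩
  let r2 : X.functionField ≃+* X.residueField (genericPoint X) :=
    RingEquiv.ofBijective (X.residue (genericPoint X)).hom
      ⟨W7Cover.residue_injective_generic, X.residue_surjective _⟩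
  letI := (f.residueFieldMap (genericPoint X)).hom.toAlgebra
  refine Algebra.IsSeparable.of_equiv_equiv (r1.symm.trans σ') r2.symm ?_
  refine RingHom.ext fun w => ?_
  obtain ⟨v, rfl⟩ := r1.surjective w
  show σ (r1.symm (r1 v)) = r2.symm ((f.residueFieldMap (genericPoint X)).hom (r1 v))
  rw [RingEquiv.symm_apply_apply, RingEquiv.eq_symm_apply]
  exact (congr($(Scheme.residue_residueFieldMap f (genericPoint X)) v)).symm

end Groth.Agent.W7Pencil
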