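import Groth.Agent.W7Pencil.Unique
import Mathlib.AlgebraicGeometry.Morphisms.Separated

/-!
# Deck transformations of double covers
-/

set_option autoImplicit false
set_option linter.style.haveILetI false
set_option backward.isDefEq.respectTransparency false

universe u

open CategoryTheory CategoryTheory.Limits AlgebraicGeometry TopologicalSpace
open Groth.Agent Groth.Agent.CohFinite Groth.Agent.CurveRR
open Groth.Agent.QC (res resO)

noncomputable section

namespace Groth.Agent.W7Pencil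

attribute [local instance] Curv2.stalkAlgebra

variable {X : Scheme.{u}} [IsIntegral X]

/-- The endomorphism of the function field of a dominant endomorphism. -/
def ffMap (σ : X ⟶ X) (e : σ (genericPoint X) = genericPoint X) : X.functionField →+* X.functionField :=
  (X.presheaf.stalkSpecializes (specializes_of_eq e) ≫ σ.stalkMap (genericPoint X)).hom

theorem ffMap_gm (σ : X ⟶ X) (e : σ (genericPoint X) = genericPoint X) {U : X.Opens}
    (h : genericPoint X ∈ U) (h' : genericPoint X ∈ σ ⁻¹ᵁ U) (a : Γ(X, U)) :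
    ffMap σ e (gm h a) = gm h' ((σ.app U).hom a) := by
  show (σ.stalkMap (genericPoint X)).hom ((X.presheaf.stalkSpecializes (specializes_of_eq e)).hom (gm h a)) = _
  rw [gm, TopCat.Presheaf.germ_stalkSpecializes_apply]
  exact congr($(Scheme.Hom.germ_stalkMap σ U (genericPoint X) _) a)

theorem ext_of_ffMap {k : Type u} [Field k] (p : X ⟶ Spec (CommRingCat.of k)) [IsSeparated p]
    (σ τ : X ⟶ X) (hσ : σ ≫ p = p) (hτ : τ ≫ p = p)
    (eσ : σ (genericPoint X) = genericPoint X) (eτ : τ (genericPoint X) = genericPoint X)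
    (h : ffMap σ eσ = ffMap τ eτ) : σ = τ := by
  haveI : IsDominant (X.fromSpecStalk (genericPoint X)) := ⟨by
    rw [DenseRange, dense_iff_closure_eq]
    refine Set.eq_univ_of_forall fun x => ?_
    have hx : genericPoint X ⤳ x := genericPoint_specializes x
    exact hx.mem_closed isClosed_closure (subset_closure (by
      rw [Scheme.range_fromSpecStalk]; exact specializes_rfl))⟩
  refine ext_of_isDominant_of_isSeparated p (hσ.trans hτ.symm) (X.fromSpecStalk (genericPoint X)) ?_
  have key : ∀ (ρ : X ⟶ X) (e : ρ (genericPoint X) = genericPoint X),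
      X.fromSpecStalk (genericPoint X) ≫ ρ =
        Spec.map (CommRingCat.ofHom (ffMap ρ e)) ≫ X.fromSpecStalk (genericPoint X) := fun ρ e => by
    show _ = Spec.map (X.presheaf.stalkSpecializes (specializes_of_eq e) ≫ ρ.stalkMap (genericPoint X)) ≫ _
    rw [Spec.map_comp, Category.assoc, Scheme.SpecMap_stalkSpecializes_fromSpecStalk,
      Scheme.SpecMap_stalkMap_fromSpecStalk]
  rw [key σ eσ, key τ eτ, h]

variable {k : Type u} [Field k] [X.Over (Spec (CommRingCat.of k))] [IsProper (X ↘ Spec (CommRingCat.of k))]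
variable [IsIntegral (CohB1.ProjSpace 1 k)] (f : X ⟶ CohB1.ProjSpace 1 k) [IsFinite f]

theorem map_genericPoint_of_comp (hdim : topologicalKrullDim X = 1)
    (e : f (genericPoint X) = genericPoint (CohB1.ProjSpace 1 k)) (σ : X ⟶ X) (hσ : σ ≫ f = f) :
    σ (genericPoint X) = genericPoint X := by
  by_contra hne
  have hc := f.isClosedMap _ (CurveVA.isClosed_singleton_of_ne_generic (k := k) hdim hne)
  rw [Set.image_singleton, show f (σ (genericPoint X)) = f (genericPoint X) by
    rw [← Scheme.Hom.comp_apply, hσ], e] at hc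
  haveI : IsProper (CohB1.ProjSpace 1 k ↘ Spec (CommRingCat.of k)) := ProjMor.isProper_toSpec 1 k
  exact CurveRR.genericPoint_ne_of_closed (k := k) (Groth.Agent.S10829.result k 1) hc rfl

theorem ffMap_fixes (hf : f ≫ CohB1.ProjSpace.toSpec 1 k = X ↘ Spec (CommRingCat.of k))
    (e : f (genericPoint X) = genericPoint (CohB1.ProjSpace 1 k)) (σ : X ⟶ X) (hσ : σ ≫ f = f)
    (eσ : σ (genericPoint X) = genericPoint X) {z : X.functionField}
    (hz : z ∈ IntermediateField.adjoin k ({(pencilOf f e).T} : Set X.functionField)) :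
    ffMap σ eσ z = z := by
  let U := CycDeg.chartU k 0
  have hU : genericPoint X ∈ f ⁻¹ᵁ U := genericPoint_mem_preimage f e 0
  have key : ∀ (g : X ⟶ CohB1.ProjSpace 1 k) (hg : genericPoint X ∈ g ⁻¹ᵁ U), g = f →
      ∀ a, gm hg ((g.app U).hom a) = gm hU ((f.app U).hom a) := by
    rintro g hg rfl a
    rfl
  have h1 : ∀ a : Γ(CohB1.ProjSpace 1 k, U), ffMap σ eσ (gm hU ((f.app U).hom a)) = gm hU ((f.app U).hom a) := fun a => by
    have hU' : genericPoint X ∈ σ ⁻¹ᵁ (f ⁻¹ᵁ U) := by
      show σ (genericPoint X) ∈ f ⁻¹ᵁ U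
      rw [eσ]; exact hU
    rw [ffMap_gm σ eσ hU hU']
    exact key (σ ≫ f) hU' hσ a
  obtain ⟨E, hE, hEX⟩ := CycDeg.exists_chart_coord k 0
  have hcomp := eval₂_eq_comp f hf e E hE hEX
  have hp : ∀ p : Polynomial k, ffMap σ eσ (Polynomial.aeval (pencilOf f e).T p) = Polynomial.aeval (pencilOf f e).T p := by
    intro p
    rw [aeval_eq_gm, hcomp]
    exact h1 _
  obtain ⟨r, s, rfl⟩ := (IntermediateField.mem_adjoin_simple_iff k _).mp hz
  rw [map_div₀, hp, hp]

/-- Two nontrivial deck transformations of double covers are equal in genus at least two. -/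
theorem deck_unique [Smooth (X ↘ Spec (CommRingCat.of k))]
    (hdim : topologicalKrullDim X = 1) (h0 : h k (Coh.structureModule X) 0 = 1) {g : ℕ}
    (hg : Curv2.genus k X = g) (hg2 : 2 ≤ g) (f' : X ⟶ CohB1.ProjSpace 1 k) [IsFinite f']
    (hf : f ≫ CohB1.ProjSpace.toSpec 1 k = X ↘ Spec (CommRingCat.of k))
    (hf' : f' ≫ CohB1.ProjSpace.toSpec 1 k = X ↘ Spec (CommRingCat.of k))
    (hr : f.residueDegree (genericPoint X) = 2) (hr' : f'.residueDegree (genericPoint X) = 2)
    (σ τ : X ⟶ X) (hσ : σ ≫ f = f) (hσ1 : σ ≠ 𝟙 X) (hτ : τ ≫ f' = f') (hτ1 : τ ≠ 𝟙 X) : σ = τ := by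
  obtain ⟨e, -⟩ := deg_O1_of_cover f hdim hf
  obtain ⟨e', -⟩ := deg_O1_of_cover f' hdim hf'
  have eσ := map_genericPoint_of_comp f hdim e σ hσ
  have eτ := map_genericPoint_of_comp f' hdim e' τ hτ
  have hσp : σ ≫ (X ↘ Spec (CommRingCat.of k)) = X ↘ Spec (CommRingCat.of k) := by
    rw [← hf, ← Category.assoc, hσ]
  have hτp : τ ≫ (X ↘ Spec (CommRingCat.of k)) = X ↘ Spec (CommRingCat.of k) := by
    rw [← hf', ← Category.assoc, hτ]
  have hF := adjoin_eq_of_two_covers hdim h0 hg hg2 f f' hf hf' e e' hr hr'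
  have H := hyper_of_cover f hdim h0 hg hf e hr
  obtain ⟨y, hy, hy'⟩ := H.exists_y
  obtain ⟨p, q, -, -, hpq⟩ := H.exists_equation hy hy'
  obtain ⟨htop, -⟩ := H.adjoin_facts hy hy'
  set F := IntermediateField.adjoin k ({(pencilOf f e).T} : Set X.functionField) with hFdef
  have fixσ : ∀ z ∈ F, ffMap σ eσ z = z := fun z hz => ffMap_fixes f hf e σ hσ eσ hz
  have fixτ : ∀ z ∈ F, ffMap τ eτ z = z := fun z hz => ffMap_fixes f' hf' e' τ hτ eτ (hF ▸ hz)
  have hpoly : ∀ p : Polynomial k, Polynomial.aeval (pencilOf f e).T p ∈ F := fun p =>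
    IntermediateField.algebra_adjoin_le_adjoin k _ (Polynomial.aeval_mem_adjoin_singleton k _)
  have ext2 : ∀ φ ψ : X.functionField →+* X.functionField, (∀ z ∈ F, φ z = z) → (∀ z ∈ F, ψ z = z) →
      φ y = ψ y → φ = ψ := fun φ ψ hφ hψ hyy => by
    let S : IntermediateField k X.functionField :=
      { RingHom.eqLocusField φ ψ with
        algebraMap_mem' := fun c => (hφ _ (F.algebraMap_mem c)).trans (hψ _ (F.algebraMap_mem c)).symm }
    have hS : IntermediateField.adjoin k ({(pencilOf f e).T, y} : Set X.functionField) ≤ S := by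
      refine IntermediateField.adjoin_le_iff.mpr ?_
      rintro z (rfl | rfl)
      · exact (hφ _ (IntermediateField.subset_adjoin k _ rfl)).trans
          (hψ _ (IntermediateField.subset_adjoin k _ rfl)).symm
      · exact hyy
    rw [htop] at hS
    exact RingHom.ext fun z => hS (IntermediateField.mem_top (x := z))
  have hval : ∀ (ρ : X ⟶ X) (eρ : ρ (genericPoint X) = genericPoint X), ρ ≫ (X ↘ Spec (CommRingCat.of k)) = X ↘ Spec (CommRingCat.of k) →
      ρ ≠ 𝟙 X → (∀ z ∈ F, ffMap ρ eρ z = z) →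
      ffMap ρ eρ y = -Polynomial.aeval (pencilOf f e).T q - y := by
    intro ρ eρ hρp hρ1 hfix
    have h1 := congrArg (ffMap ρ eρ) hpq
    rw [map_add, map_pow, map_mul, hfix _ (hpoly q), hfix _ (hpoly p), ← hpq] at h1
    have h2 : (ffMap ρ eρ y - y) * (ffMap ρ eρ y + y + Polynomial.aeval (pencilOf f e).T q) = 0 := by
      linear_combination h1
    rcases mul_eq_zero.mp h2 with h3 | h3
    · exfalso
      refine hρ1 (ext_of_ffMap (X ↘ Spec (CommRingCat.of k)) ρ (𝟙 X) hρp (Category.id_comp _) eρ rfl ?_)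
      have hid : ∀ z, ffMap (𝟙 X) (rfl : (𝟙 X : X ⟶ X) (genericPoint X) = genericPoint X) z = z := fun z => by
        simp [ffMap]
      exact ext2 _ _ hfix (fun z _ => hid z) ((sub_eq_zero.mp h3).trans (hid y).symm)
    · linear_combination h3
  refine ext_of_ffMap (X ↘ Spec (CommRingCat.of k)) σ τ hσp hτp eσ eτ (ext2 _ _ fixσ fixτ ?_)
  rw [hval σ eσ hσp hσ1 fixσ, hval τ eτ hτp hτ1 fixτ]

end Groth.Agent.W7Pencil
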