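import Groth.Agent.W7Pencil.Affine
import Groth.Agent.W7Pencil.Invol
import Groth.Agent.IntegralSect.Basic
import Groth.Agent.W7Cover.Degree
import Mathlib.AlgebraicGeometry.Morphisms.Integral
import Mathlib.FieldTheory.IsAlgClosed.Basic
import Mathlib.Algebra.Polynomial.Roots

/-!
# The deck involution of a double cover and its fixed points
-/

set_option autoImplicit false
set_option linter.style.haveILetI false
set_option backward.isDefEq.respectTransparency false

universe u

open CategoryTheory CategoryTheory.Limits AlgebraicGeometry TopologicalSpace Opposite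
open Groth.Agent Groth.Agent.CurveRR
open Groth.Agent.QC (res resO)
open scoped Polynomial

noncomputable section

namespace Groth.Agent.W7Pencil

attribute [local instance] secMod Curv2.stalkAlgebra Curv2.resAlgebra

variable {k : Type u} [Field k] {X : Scheme.{u}} [IsIntegral X] [X.Over (Spec (CommRingCat.of k))]
  [IsProper (X ↘ Spec (CommRingCat.of k))] {L : X.Modules} {P : Pencil L} {g : ℕ}

/-- Completing the square. -/
theorem Hyper.exists_square_equation (H : Hyper k P g) (h2 : (2 : k) ≠ 0) :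
    ∃ (y : X.functionField) (R : k[X]), y ∈ P.space k (g + 1) ∧ y ∉ P.polys k (g + 1) ∧
      R.natDegree ≤ 2 * g + 2 ∧ 2 * g + 1 ≤ R.natDegree ∧ y ^ 2 = Polynomial.aeval P.T R := by
  obtain ⟨y, hy, hy'⟩ := H.exists_y
  obtain ⟨p, q, hp, hq, hpq⟩ := H.exists_equation hy hy'
  let r : k[X] := Polynomial.C (2⁻¹ : k) * q
  have hr : r.natDegree ≤ g + 1 := (Polynomial.natDegree_C_mul_le _ _).trans hq
  have hmem : Polynomial.aeval P.T r ∈ P.polys k (g + 1) := ⟨r, by
    rw [SetLike.mem_coe, Polynomial.mem_degreeLT]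
    exact Polynomial.degree_le_natDegree.trans_lt (by exact_mod_cast Nat.lt_succ_of_le hr), rfl⟩
  have hz : y + Polynomial.aeval P.T r ∈ P.space k (g + 1) := add_mem hy (P.polys_le _ hmem)
  have hz' : y + Polynomial.aeval P.T r ∉ P.polys k (g + 1) := fun h => hy' (by
    have := sub_mem h hmem
    rwa [add_sub_cancel_right] at this)
  have heq : (y + Polynomial.aeval P.T r) ^ 2 = Polynomial.aeval P.T (p + r ^ 2) := by
    have hh : Polynomial.aeval P.T q = 2 * Polynomial.aeval P.T r := by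
      simp only [r, map_mul, Polynomial.aeval_C]
      rw [← mul_assoc, ← map_ofNat (algebraMap k X.functionField) 2, ← map_mul, mul_inv_cancel₀ h2, map_one, one_mul]
    rw [map_add, map_pow, ← hpq, hh]; ring
  refine ⟨_, p + r ^ 2, hz, hz', ?_, ?_, heq⟩
  · refine (Polynomial.natDegree_add_le _ _).trans (max_le hp ?_)
    exact Polynomial.natDegree_pow_le.trans (by omega)
  · have := H.two_mul_genus_add_one_le hz hz' (p := p + r ^ 2) (q := 0) (by
      rw [map_zero, zero_mul, add_zero, heq])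
    simpa using this

/-- The equation has no repeated root. -/
theorem Hyper.squarefree_equation (H : Hyper k P g) {y : X.functionField} (hy : y ∈ P.space k (g + 1))
    (hy' : y ∉ P.polys k (g + 1)) {R : k[X]} (h : y ^ 2 = Polynomial.aeval P.T R) (c : k) :
    ¬ (Polynomial.X - Polynomial.C c) ^ 2 ∣ R := by
  rintro ⟨R', rfl⟩
  set l := Polynomial.aeval P.T (Polynomial.X - Polynomial.C c) with hl
  have hl0 : l ≠ 0 := fun e => Polynomial.X_sub_C_ne_zero c (H.aeval_injective (e.trans (map_zero _).symm))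
  haveI : Nonempty P.U0 := ⟨⟨_, P.mem0⟩⟩
  haveI : IsIntegrallyClosed Γ(X, P.U0) := NormSect.isIntegrallyClosed_sections _ fun x _ => H.normal x
  letI : Algebra Γ(X, P.U0) X.functionField := (gm P.mem0).toAlgebra
  haveI : IsFractionRing Γ(X, P.U0) X.functionField := functionField_isFractionRing_of_isAffineOpen X P.U0 P.aff0
  have hint : _root_.IsIntegral Γ(X, P.U0) (y / l) := by
    refine IsIntegral.of_pow (n := 2) two_pos ?_
    rw [div_pow, h, map_mul, map_pow, ← hl, mul_div_cancel_left₀ _ (pow_ne_zero 2 hl0),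
      aeval_eq_gm]
    exact isIntegral_algebraMap
  obtain ⟨a, ha⟩ := IsIntegrallyClosed.isIntegral_iff.mp hint
  obtain ⟨p, q, hpq⟩ := H.exists_normal_form_sections hy hy' a
  have hye : y = l * (Polynomial.aeval P.T p + Polynomial.aeval P.T q * y) := by
    rw [← hpq, show gm P.mem0 a = y / l from ha, mul_div_cancel₀ _ hl0]
  have hne : (1 - (Polynomial.X - Polynomial.C c) * q) ≠ 0 := by
    intro e
    have := congrArg (Polynomial.eval c) e
    simp at this
  refine H.notMem_range hy hy' (p := (Polynomial.X - Polynomial.C c) * p) hne ?_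
  rw [map_sub, map_one, map_mul, map_mul, ← hl]
  linear_combination hye

/-- The coordinate ring of the affine part, with the sign change of `y`. -/
theorem Hyper.exists_ring_involution (H : Hyper k P g) {y : X.functionField} (hy : y ∈ P.space k (g + 1))
    (hy' : y ∉ P.polys k (g + 1)) {R : k[X]} (h : y ^ 2 = Polynomial.aeval P.T R) :
    ∃ φ : Γ(X, P.U0) →+* Γ(X, P.U0), (∀ a, φ (φ a) = a) ∧
      ∀ (a : Γ(X, P.U0)) (p q : k[X]), gm P.mem0 a = Polynomial.aeval P.T p + Polynomial.aeval P.T q * y →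
        gm P.mem0 (φ a) = Polynomial.aeval P.T p - Polynomial.aeval P.T q * y := by
  obtain ⟨ay, by', hay, -⟩ := id hy
  let Φ : MvPolynomial (Fin 2) k →+* Γ(X, P.U0) := MvPolynomial.eval₂Hom (cst k X P.U0) ![P.t, ay]
  let ι : MvPolynomial (Fin 2) k →+* MvPolynomial (Fin 2) k :=
    MvPolynomial.eval₂Hom MvPolynomial.C ![MvPolynomial.X 0, -MvPolynomial.X 1]
  have hΦ : ∀ a : k[X], gm P.mem0 (Φ (Polynomial.aeval (MvPolynomial.X 0) a)) = Polynomial.aeval P.T a := by
    intro a
    rw [aeval_eq_gm, Polynomial.aeval_def, Polynomial.hom_eval₂]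
    congr 1
    rw [Polynomial.coe_eval₂RingHom]
    congr 1
    · exact RingHom.ext fun c => by simp [Φ, MvPolynomial.algebraMap_eq]
    · simp [Φ]
  have hι : ∀ a : k[X], ι (Polynomial.aeval (MvPolynomial.X 0) a) = Polynomial.aeval (MvPolynomial.X 0) a := by
    intro a
    rw [Polynomial.aeval_def, Polynomial.hom_eval₂]
    congr 1
    · exact RingHom.ext fun c => by simp [ι, MvPolynomial.algebraMap_eq]
    · simp [ι]
  have hΦy : gm P.mem0 (Φ (MvPolynomial.X 1)) = y := by simp [Φ, hay]
  have hιy : ι (MvPolynomial.X 1) = -MvPolynomial.X 1 := by simp [ι]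
  have hval : ∀ p q : k[X],
      gm P.mem0 (Φ (Polynomial.aeval (MvPolynomial.X 0) p + Polynomial.aeval (MvPolynomial.X 0) q * MvPolynomial.X 1)) =
        Polynomial.aeval P.T p + Polynomial.aeval P.T q * y := fun p q => by
    rw [map_add, map_add, map_mul, map_mul, hΦ, hΦ, hΦy]
  have hsurj : Function.Surjective Φ := fun s => by
    obtain ⟨p, q, hpq⟩ := H.exists_normal_form_sections hy hy' s
    exact ⟨_, gm_injective P.mem0 ((hval p q).trans hpq.symm)⟩
  have hker : RingHom.ker Φ ≤ RingHom.ker (Φ.comp ι) := by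
    intro F hF
    obtain ⟨p, q, hpq⟩ := exists_linear_form R 0 F
    obtain ⟨c, hc⟩ := Ideal.mem_span_singleton'.1 hpq
    rw [map_zero, zero_mul, add_zero] at hc
    have hE : gm P.mem0 (Φ (MvPolynomial.X 1 ^ 2 - Polynomial.aeval (MvPolynomial.X 0) R)) = 0 := by
      rw [map_sub, map_sub, map_pow, map_pow, hΦ, hΦy, h, sub_self]
    have e1 : Polynomial.aeval P.T p + Polynomial.aeval P.T q * y = 0 := by
      have := congrArg (fun G => gm P.mem0 (Φ G)) hc
      simp only [map_mul, map_sub Φ F, RingHom.mem_ker.1 hF, map_zero, hE, mul_zero, zero_sub] at this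
      rw [map_neg, hval] at this
      exact neg_eq_zero.1 this.symm
    have hq : q = 0 := by
      by_contra hq
      exact H.notMem_range hy hy' (p := -p) hq (by rw [map_neg]; linear_combination e1)
    have hp : p = 0 := H.aeval_injective (by simpa [hq] using e1)
    rw [hp, hq, map_zero, zero_mul, add_zero, sub_zero] at hc
    rw [RingHom.mem_ker, RingHom.comp_apply, ← hc, map_mul, map_mul]
    refine mul_eq_zero_of_right _ (gm_injective P.mem0 ?_)
    rw [map_zero, ← hE, map_sub ι, map_pow ι, hι, hιy, neg_sq]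
  let φ := RingHom.liftOfSurjective Φ hsurj ⟨Φ.comp ι, hker⟩
  have hφ : ∀ F, φ (Φ F) = Φ (ι F) := fun F => RingHom.liftOfRightInverse_comp_apply Φ _ _ ⟨Φ.comp ι, hker⟩ F
  refine ⟨φ, fun a => ?_, fun a p q hpq => ?_⟩
  · obtain ⟨F, rfl⟩ := hsurj a
    rw [hφ, hφ]
    refine congrArg Φ (RingHom.congr_fun (f := ι.comp ι) (g := RingHom.id _) ?_ F)
    refine MvPolynomial.ringHom_ext (fun c => by simp [ι]) (fun i => ?_)
    fin_cases i <;> simp [ι]
  · rw [show a = Φ (Polynomial.aeval (MvPolynomial.X 0) p + Polynomial.aeval (MvPolynomial.X 0) q * MvPolynomial.X 1)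
      from gm_injective P.mem0 (hpq.trans (hval p q).symm), hφ, map_add ι, map_mul ι, hι, hι, hιy, mul_neg,
      map_add Φ, map_neg Φ, map_mul Φ, map_add, map_neg, map_mul, hΦ, hΦ, hΦy, sub_eq_add_neg]

variable [IsIntegral (CohB1.ProjSpace 1 k)] (f : X ⟶ CohB1.ProjSpace 1 k) [IsFinite f]

/-- The deck involution. -/
theorem exists_deck (hf : f ≫ CohB1.ProjSpace.toSpec 1 k = X ↘ Spec (CommRingCat.of k))
    (e : f (genericPoint X) = genericPoint (CohB1.ProjSpace 1 k)) (H : Hyper k (pencilOf f e) g)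
    {y : X.functionField} (hy : y ∈ (pencilOf f e).space k (g + 1))
    (hy' : y ∉ (pencilOf f e).polys k (g + 1)) {R : k[X]} (h : y ^ 2 = Polynomial.aeval (pencilOf f e).T R) :
    ∃ σ : X ⟶ X, σ ≫ f = f ∧ σ ≫ σ = 𝟙 X ∧ ∃ eσ : σ (genericPoint X) = genericPoint X,
      ffMap σ eσ y = -y := by
  obtain ⟨φ, hφφ, hφ⟩ := H.exists_ring_involution hy hy' h
  let U : X.Opens := (pencilOf f e).U0
  have hU : IsAffineOpen U := (pencilOf f e).aff0
  let σ0 : (U : Scheme.{u}) ⟶ X := hU.isoSpec.hom ≫ Spec.map (CommRingCat.ofHom φ) ≫ hU.fromSpec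
  have hfix : (CommRingCat.ofHom φ : Γ(X, U) ⟶ Γ(X, U)).hom.comp (f.app (CycDeg.chartU k 0)).hom =
      (f.app (CycDeg.chartU k 0)).hom := by
    obtain ⟨E, hE, hEX⟩ := CycDeg.exists_chart_coord k 0
    refine RingHom.ext fun c => ?_
    show φ ((f.app (CycDeg.chartU k 0)).hom c) = (f.app (CycDeg.chartU k 0)).hom c
    refine gm_injective (pencilOf f e).mem0 ?_
    have hc : Polynomial.aeval (pencilOf f e).T (E c) = gm (pencilOf f e).mem0 ((f.app (CycDeg.chartU k 0)).hom c) := by
      rw [aeval_eq_gm, eval₂_eq_comp f hf e E hE hEX]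
      show gm _ ((f.app (CycDeg.chartU k 0)).hom (E.symm (E c))) = _
      rw [E.symm_apply_apply]
      rfl
    rw [hφ _ (E c) 0 (by rw [map_zero, zero_mul, add_zero]; exact hc.symm), map_zero, zero_mul, sub_zero, hc]
  have hσ0 : σ0 ≫ f = U.ι ≫ f := by
    have h1 : hU.fromSpec ≫ f = Spec.map (f.app (CycDeg.chartU k 0)) ≫ (CycDeg.isAffineOpen_chartU k 0).fromSpec := by
      rw [← Scheme.Hom.appLE_eq_app]
      exact (IsAffineOpen.SpecMap_appLE_fromSpec f (CycDeg.isAffineOpen_chartU k 0) hU le_rfl).symm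
    have h2 : (f.app (CycDeg.chartU k 0)) ≫ CommRingCat.ofHom φ = f.app (CycDeg.chartU k 0) :=
      CommRingCat.hom_ext hfix
    simp only [σ0, Category.assoc]
    rw [h1, ← Spec.map_comp_assoc, h2, ← h1, ← Category.assoc, hU.isoSpec_hom_fromSpec]
  have hlift : Limits.pullback.lift U.ι σ0 hσ0.symm ≫ Limits.pullback.fst f f = U.ι := Limits.pullback.lift_fst _ _ _
  obtain ⟨s', hs', hs'U⟩ := IntegralSect.exists_section (Limits.pullback.fst f f) H.normal U (pencilOf f e).mem0 _ hlift
  let σ := s' ≫ Limits.pullback.snd f f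
  have hσf : σ ≫ f = f := by
    simp only [σ, Category.assoc, ← Limits.pullback.condition]
    rw [← Category.assoc, hs', Category.id_comp]
  have hσU : U.ι ≫ σ = σ0 := by
    simp only [σ]
    rw [← Category.assoc, hs'U, Limits.pullback.lift_snd]
  haveI : IsDominant U.ι := ⟨by
    rw [DenseRange, U.range_ι]
    exact U.2.dense ⟨_, (pencilOf f e).mem0⟩⟩
  have hσp : σ ≫ (X ↘ Spec (CommRingCat.of k)) = X ↘ Spec (CommRingCat.of k) := by
    rw [← hf, ← Category.assoc, hσf]
  have hσσ : σ ≫ σ = 𝟙 X := by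
    refine ext_of_isDominant_of_isSeparated (X ↘ Spec (CommRingCat.of k))
      (by rw [Category.assoc, hσp, hσp, Category.id_comp]) U.ι ?_
    rw [← Category.assoc, hσU]
    simp only [σ0, Category.assoc]
    rw [show hU.fromSpec ≫ σ = hU.isoSpec.inv ≫ σ0 by rw [← hσU, ← Category.assoc]; rfl]
    simp only [σ0, Iso.inv_hom_id_assoc, ← Spec.map_comp_assoc]
    rw [show CommRingCat.ofHom φ ≫ CommRingCat.ofHom φ = 𝟙 _ from CommRingCat.hom_ext (RingHom.ext hφφ),
      Spec.map_id]
    erw [Category.id_comp, hU.isoSpec_hom_fromSpec, Category.comp_id]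
  have eσ : σ (genericPoint X) = genericPoint X := by
    refine ((genericPoint_specializes (σ (genericPoint X))).antisymm ?_).eq.symm
    have h := (genericPoint_specializes (σ (genericPoint X))).map σ.continuous
    rwa [show σ (σ (genericPoint X)) = genericPoint X by rw [← Scheme.Hom.comp_apply, hσσ]; rfl] at h
  refine ⟨σ, hσf, hσσ, eσ, ?_⟩
  obtain ⟨ay, -, hay, -⟩ := id hy
  have hpre : U ≤ σ ⁻¹ᵁ U := fun x hx => by
    have hfx : f (σ x) = f x := by rw [← Scheme.Hom.comp_apply, hσf]
    show f (σ x) ∈ CycDeg.chartU k 0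
    rw [hfx]; exact hx
  have key : (hU.fromSpec ≫ σ) = Spec.map (CommRingCat.ofHom φ) ≫ hU.fromSpec := by
    rw [show hU.fromSpec ≫ σ = hU.isoSpec.inv ≫ σ0 by rw [← hσU, ← Category.assoc]; rfl]
    simp only [σ0, Iso.inv_hom_id_assoc]
  have hloc : σ.appLE U U hpre = CommRingCat.ofHom φ :=
    Spec.map_injective ((cancel_mono hU.fromSpec).1 ((IsAffineOpen.SpecMap_appLE_fromSpec σ hU hU hpre).trans key))
  rw [← hay, ffMap_gm σ eσ (pencilOf f e).mem0 (hpre (pencilOf f e).mem0)]
  have : gm (pencilOf f e).mem0 ((σ.appLE U U hpre).hom ay) = -gm (pencilOf f e).mem0 ay := by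
    rw [hloc]
    show gm _ (φ ay) = _
    rw [hφ ay 0 1 (by rw [map_zero, map_one, zero_add, one_mul, hay]), map_zero, map_one, zero_sub, one_mul, hay]
  rw [← this]
  exact (gm_resO hpre (pencilOf f e).mem0 _).symm

end Groth.Agent.W7Pencil
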