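import Groth.Agent.W7Pencil.Deck
import Groth.Agent.W7OnePole.FixedPoint
import Groth.Agent.W7OnePole.Zeros
import Mathlib.SetTheory.Cardinal.Finite
import Mathlib.Data.Set.Card

/-!
# The fixed points of the deck involution
-/

set_option autoImplicit false
set_option linter.style.haveILetI false
set_option backward.isDefEq.respectTransparency false

universe u

open CategoryTheory CategoryTheory.Limits AlgebraicGeometry TopologicalSpace Opposite
open Groth.Agent Groth.Agent.CurveRR
open Groth.Agent.QC (res resO)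
open Groth.Agent.W7OnePole (stalkEnd residue_stalkEnd toFun toFun_germ toFun_injective ffMap_toFun evaluation_cst)
open scoped Polynomial

noncomputable section

namespace Groth.Agent.W7Pencil

attribute [local instance] secMod Curv2.stalkAlgebra Curv2.resAlgebra

/-- A closed point of an affine open is determined by the functions vanishing there. -/
theorem eq_of_vanishing {X : Scheme.{u}} {U : X.Opens} (hU : IsAffineOpen U) {x x' : X} (hx : x ∈ U)
    (hx' : x' ∈ U) (hc : IsClosed ({x'} : Set X))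
    (h : ∀ a : Γ(X, U), (X.evaluation U x' hx').hom a = 0 → (X.evaluation U x hx).hom a = 0) : x = x' := by
  by_contra hne
  obtain ⟨a, haV, hax⟩ := hU.exists_basicOpen_le (V := ⟨({x'} : Set X)ᶜ, hc.isOpen_compl⟩) ⟨x, hne⟩ hx
  exact (X.evaluation_ne_zero_iff_mem_basicOpen x hx a).2 hax
    (h a ((X.evaluation_eq_zero_iff_notMem_basicOpen x' hx' a).2 fun hm => haV hm rfl))

/-- An anti-invariant function vanishes at a fixed rational point. -/
theorem evaluation_eq_zero_of_anti {k : Type u} [Field k] {X : Scheme.{u}} [IsIntegral X]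
    [X.Over (Spec (CommRingCat.of k))] (h2 : (2 : k) ≠ 0) (σ : X ⟶ X)
    (hσ : σ ≫ (X ↘ Spec (CommRingCat.of k)) = X ↘ Spec (CommRingCat.of k))
    (eσ : σ (genericPoint X) = genericPoint X) {Q : X} (e : σ Q = Q)
    (hrat : Module.finrank k (X.residueField Q) = 1) {U : X.Opens} (hQ : Q ∈ U) (hη : genericPoint X ∈ U)
    (a : Γ(X, U)) (ha : ffMap σ eσ (gm hη a) = -gm hη a) : (X.evaluation U Q hQ).hom a = 0 := by
  have e1 : toFun Q (stalkEnd σ e (X.presheaf.germ U Q hQ a)) = toFun Q (-(X.presheaf.germ U Q hQ a)) := by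
    rw [← ffMap_toFun σ e eσ, map_neg, toFun_germ]
    exact ha
  have e2 := congrArg (X.residue Q).hom (toFun_injective Q e1)
  rw [residue_stalkEnd σ hσ e hrat, map_neg] at e2
  have h2Q : (2 : X.residueField Q) ≠ 0 := by
    rw [← map_ofNat (algebraMap k (X.residueField Q)) 2]; exact (map_ne_zero _).2 h2
  refine (mul_eq_zero.1 (?_ : (2 : X.residueField Q) * (X.evaluation U Q hQ).hom a = 0)).resolve_left h2Q
  rw [two_mul]
  exact eq_neg_iff_add_eq_zero.1 e2

variable {k : Type u} [Field k] {X : Scheme.{u}} [IsIntegral X] [X.Over (Spec (CommRingCat.of k))]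
  [IsProper (X ↘ Spec (CommRingCat.of k))] {L : X.Modules} {P : Pencil L}

theorem Pencil.evaluation_aeval (p : k[X]) {x : X} (hx : x ∈ P.U0) {c : k}
    (hc : (X.evaluation P.U0 x hx).hom P.t = algebraMap k (X.residueField x) c) :
    (X.evaluation P.U0 x hx).hom (Polynomial.eval₂RingHom (cst k X P.U0) P.t p) =
      algebraMap k (X.residueField x) (p.eval c) := by
  rw [Polynomial.coe_eval₂RingHom, Polynomial.hom_eval₂, hc]
  rw [show ((X.evaluation P.U0 x hx).hom.comp (cst k X P.U0)) = algebraMap k (X.residueField x) from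
    RingHom.ext fun d => evaluation_cst hx d, Polynomial.eval₂_at_apply]

/-- The leading coefficient at infinity. -/
theorem Pencil.exists_top_coeff {p : k[X]} {m : ℕ} (hp : p.natDegree ≤ m) :
    ∃ b : Γ(X, P.U1), gm P.mem1 (cst k X P.U1 (p.coeff m) + b * P.t1) * P.T ^ m = Polynomial.aeval P.T p := by
  have hT : P.T ^ m = P.T ^ m := rfl
  obtain rfl | hm := Nat.eq_zero_or_pos m
  · refine ⟨0, ?_⟩
    rw [zero_mul, add_zero, pow_zero, mul_one, gm_cst]
    conv_rhs => rw [Polynomial.eq_C_of_natDegree_le_zero hp]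
    rw [Polynomial.aeval_C]
  · obtain ⟨j, rfl⟩ : ∃ j, m = j + 1 := ⟨m - 1, by omega⟩
    let p' := p - Polynomial.C (p.coeff (j + 1)) * Polynomial.X ^ (j + 1)
    have hp' : p'.natDegree ≤ j := by
      rw [Polynomial.natDegree_le_iff_coeff_eq_zero]
      intro N hN
      simp only [p', Polynomial.coeff_sub, Polynomial.coeff_C_mul_X_pow]
      split
      · next h => rw [h, sub_self]
      · next h => rw [sub_zero]; exact Polynomial.coeff_eq_zero_of_natDegree_lt (by omega)
    obtain ⟨b, hb⟩ := Hyper.aeval_mul_t1_pow (P := P) (p := p') (n := j) hp'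
    refine ⟨b, ?_⟩
    have e : Polynomial.aeval P.T p = Polynomial.aeval P.T p' + algebraMap k X.functionField (p.coeff (j + 1)) * P.T ^ (j + 1) := by
      simp [p']
    rw [e, ← hb, map_add, map_mul, gm_cst]
    linear_combination (gm P.mem1 b * P.T ^ j) * P.gm_t1_mul_T

variable [IsIntegral (CohB1.ProjSpace 1 k)] (f : X ⟶ CohB1.ProjSpace 1 k) [IsFinite f] {g : ℕ}

/-- The number of fixed closed points of the deck involution. -/
theorem card_fixedPoints_deck [IsAlgClosed k] (h2 : (2 : k) ≠ 0) (hdim : topologicalKrullDim X = 1)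
    (hf : f ≫ CohB1.ProjSpace.toSpec 1 k = X ↘ Spec (CommRingCat.of k))
    (e : f (genericPoint X) = genericPoint (CohB1.ProjSpace 1 k)) (H : Hyper k (pencilOf f e) g)
    (hrat : ∀ x : X, IsClosed ({x} : Set X) → Module.finrank k (X.residueField x) = 1)
    {y : X.functionField} (hy : y ∈ (pencilOf f e).space k (g + 1))
    (hy' : y ∉ (pencilOf f e).polys k (g + 1)) {R : k[X]}
    (hR : R.natDegree ≤ 2 * g + 2) (hR' : 2 * g + 1 ≤ R.natDegree)
    (h : y ^ 2 = Polynomial.aeval (pencilOf f e).T R)
    (σ : X ⟶ X) (hσf : σ ≫ f = f) (eσ : σ (genericPoint X) = genericPoint X) (hσy : ffMap σ eσ y = -y) :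
    Nat.card {x : X // IsClosed ({x} : Set X) ∧ σ x = x} = 2 * g + 2 := by
  classical
  set D := pencilOf f e with hD
  have hσp : σ ≫ (X ↘ Spec (CommRingCat.of k)) = X ↘ Spec (CommRingCat.of k) := by
    rw [← hf, ← Category.assoc, hσf]
  have hσfx : ∀ x, f (σ x) = f x := fun x => by rw [← Scheme.Hom.comp_apply, hσf]
  obtain ⟨ay, b, hay, hb⟩ := id hy
  have hy0 : y ≠ 0 := fun h0 => hy' (h0 ▸ zero_mem _)
  have hval : ∀ {x : X}, IsClosed ({x} : Set X) → ∀ {U : X.Opens} (hx : x ∈ U) (a : Γ(X, U)),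
      ∃ c : k, (X.evaluation U x hx).hom a = algebraMap k (X.residueField x) c := fun {x} hc {U} hx a => by
    obtain ⟨c, hc'⟩ := (finrank_eq_one_iff_of_nonzero' (1 : X.residueField x) one_ne_zero).1 (hrat x hc)
      ((X.evaluation U x hx).hom a)
    exact ⟨c, by rw [← hc', Algebra.smul_def, mul_one]⟩
  have hinj : ∀ x : X, Function.Injective (algebraMap k (X.residueField x)) := fun x => RingHom.injective _
  have hclosed : ∀ {x : X} {U : X.Opens} (hη : genericPoint X ∈ U) (hx : x ∈ U) {a : Γ(X, U)},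
      gm hη a ≠ 0 → (X.evaluation U x hx).hom a = 0 → IsClosed ({x} : Set X) := by
    intro x U hη hx a ha0 hev
    refine CurveVA.isClosed_singleton_of_ne_generic (k := k) hdim fun he => ?_
    subst he
    have hz := hev
    show False
    refine ha0 ?_
    have : (X.presheaf.germ U (genericPoint X) hx).hom a ∈ IsLocalRing.maximalIdeal X.functionField :=
      (IsLocalRing.residue_eq_zero_iff _).1 hz
    rw [IsLocalRing.maximalIdeal_eq_bot] at this
    exact (Ideal.mem_bot).1 this
  -- values in the affine part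
  have hsq : (Polynomial.eval₂RingHom (cst k X D.U0) D.t) R = ay ^ 2 := gm_injective D.mem0 (by
    rw [← aeval_eq_gm, map_pow, hay, h])
  have hroot : ∀ {x : X} (hx : x ∈ D.U0) {c : k},
      (X.evaluation D.U0 x hx).hom D.t = algebraMap k (X.residueField x) c →
      ((X.evaluation D.U0 x hx).hom ay = 0 ↔ R.eval c = 0) := by
    intro x hx c hc
    have e1 := D.evaluation_aeval R hx hc
    rw [hsq, map_pow] at e1
    constructor
    · intro h0
      rw [h0, zero_pow (by omega : (2 : ℕ) ≠ 0)] at e1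
      exact (map_eq_zero _).1 e1.symm
    · intro h0
      rw [h0, map_zero] at e1
      exact pow_eq_zero_iff two_ne_zero |>.1 e1
  have heq0 : ∀ {x x' : X} (hx : x ∈ D.U0) (hx' : x' ∈ D.U0), IsClosed ({x} : Set X) → IsClosed ({x'} : Set X) →
      (X.evaluation D.U0 x hx).hom ay = 0 → (X.evaluation D.U0 x' hx').hom ay = 0 →
      ∀ c : k, (X.evaluation D.U0 x hx).hom D.t = algebraMap k (X.residueField x) c →
        (X.evaluation D.U0 x' hx').hom D.t = algebraMap k (X.residueField x') c → x = x' := by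
    intro x x' hx hx' hxc hxc' h0 h0' c hc hc'
    refine eq_of_vanishing D.aff0 hx hx' hxc' fun a ha => ?_
    obtain ⟨p, q, hpq⟩ := H.exists_normal_form_sections hy hy' a
    have ha' : a = Polynomial.eval₂RingHom (cst k X D.U0) D.t p + Polynomial.eval₂RingHom (cst k X D.U0) D.t q * ay :=
      gm_injective D.mem0 (by rw [hpq, map_add, map_mul, ← aeval_eq_gm, ← aeval_eq_gm, hay])
    rw [ha', map_add, map_mul, h0', mul_zero, add_zero, D.evaluation_aeval p hx' hc', map_eq_zero] at ha
    rw [ha', map_add, map_mul, h0, mul_zero, add_zero, D.evaluation_aeval p hx hc, ha, map_zero]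
  have hpre : D.U0 ≤ σ ⁻¹ᵁ D.U0 := fun x hx => by
    show f (σ x) ∈ CycDeg.chartU k 0
    rw [hσfx]; exact hx
  have hfix : ∀ {x : X} (hx : x ∈ D.U0), IsClosed ({x} : Set X) →
      (σ x = x ↔ (X.evaluation D.U0 x hx).hom ay = 0) := by
    intro x hx hxc
    refine ⟨fun hσx => evaluation_eq_zero_of_anti h2 σ hσp eσ hσx (hrat x hxc) hx D.mem0 ay (by rw [hay, hσy]),
      fun h0 => ?_⟩
    have hx' : σ x ∈ D.U0 := hpre hx
    have hneg : resO X hpre ((σ.app D.U0).hom ay) = -ay := gm_injective D.mem0 (by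
      rw [gm_resO, ← ffMap_gm σ eσ D.mem0 (hpre D.mem0), map_neg, hay, hσy])
    have h0' : (X.evaluation D.U0 (σ x) hx').hom ay = 0 := by
      refine (X.evaluation_eq_zero_iff_notMem_basicOpen _ hx' ay).2 fun hm => ?_
      have hm' : x ∈ D.U0 ⊓ σ ⁻¹ᵁ X.basicOpen ay := ⟨hx, hm⟩
      rw [Scheme.preimage_basicOpen, ← Scheme.basicOpen_res _ _ (homOfLE hpre).op] at hm'
      change x ∈ X.basicOpen (resO X hpre ((σ.app D.U0).hom ay)) at hm'
      rw [hneg] at hm'
      refine (X.evaluation_eq_zero_iff_notMem_basicOpen x hx _).1 ?_ hm'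
      rw [map_neg, h0, neg_zero]
    have hxc' : IsClosed ({σ x} : Set X) := hclosed D.mem0 hx' (hay ▸ hy0) h0'
    obtain ⟨c, hc⟩ := hval hxc hx D.t
    refine heq0 hx' hx hxc' hxc h0' h0 c ?_ hc
    -- the coordinate only depends on the image
    let w := CycDeg.coord k 0 - ZeroSch.cst k (CycDeg.chartU k 0) c
    have hw : (f.app (CycDeg.chartU k 0)).hom w = D.t - cst k X D.U0 c := by
      rw [map_sub]; exact congrArg (D.t - ·) (CurveVA.app_cst f hf (CycDeg.chartU k 0) c)
    have hz : (X.evaluation D.U0 x hx).hom (D.t - cst k X D.U0 c) = 0 := by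
      rw [map_sub, hc, evaluation_cst, sub_self]
    have hz' : (X.evaluation D.U0 (σ x) hx').hom (D.t - cst k X D.U0 c) = 0 := by
      refine (X.evaluation_eq_zero_iff_notMem_basicOpen _ hx' _).2 fun hm => ?_
      refine (X.evaluation_eq_zero_iff_notMem_basicOpen x hx _).1 hz ?_
      rw [← hw] at hm ⊢
      change σ x ∈ X.basicOpen ((f.app _).hom w) at hm
      change x ∈ X.basicOpen ((f.app _).hom w)
      rw [show X.basicOpen ((f.app (CycDeg.chartU k 0)).hom w) = f ⁻¹ᵁ (CycDeg.P1 k).basicOpen w from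
        (Scheme.preimage_basicOpen f w).symm] at hm ⊢
      have hm' : f (σ x) ∈ (CycDeg.P1 k).basicOpen w := hm
      rw [hσfx] at hm'; exact hm'
    rw [map_sub, evaluation_cst, sub_eq_zero] at hz'
    exact hz'
  -- the affine fixed points are the roots
  have hcount : R.roots.toFinset.card = R.natDegree := by
    have hR0 : R ≠ 0 := fun h0 => by rw [h0, Polynomial.natDegree_zero] at hR'; omega
    rw [Multiset.toFinset_card_of_nodup, IsAlgClosed.card_roots_eq_natDegree]
    rw [Multiset.nodup_iff_count_le_one]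
    intro c
    rw [Polynomial.count_roots]
    by_contra hc
    exact H.squarefree_equation hy hy' h c ((Polynomial.le_rootMultiplicity_iff hR0).1 (by omega))
  let A : Set X := {x | IsClosed ({x} : Set X) ∧ σ x = x ∧ x ∈ D.U0}
  let B : Set X := {x | IsClosed ({x} : Set X) ∧ σ x = x ∧ x ∉ D.U0}
  have hA : Nat.card A = R.natDegree := by
    choose val hval' using fun x : A => hval x.2.1 x.2.2.2 D.t
    have hmem : ∀ x : A, val x ∈ R.roots.toFinset := fun x => by
      rw [Multiset.mem_toFinset, Polynomial.mem_roots (fun h0 => by rw [h0, Polynomial.natDegree_zero] at hR'; omega),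
        Polynomial.IsRoot]
      exact (hroot x.2.2.2 (hval' x)).1 ((hfix x.2.2.2 x.2.1).1 x.2.2.1)
    let F : A → R.roots.toFinset := fun x => ⟨val x, hmem x⟩
    have hF : Function.Bijective F := by
      refine ⟨fun x x' hxx => Subtype.ext ?_, fun c => ?_⟩
      · have hv : val x = val x' := congrArg Subtype.val hxx
        exact heq0 x.2.2.2 x'.2.2.2 x.2.1 x'.2.1 ((hfix x.2.2.2 x.2.1).1 x.2.2.1)
          ((hfix x'.2.2.2 x'.2.1).1 x'.2.2.1) (val x) (hval' x) (hv ▸ hval' x')
      · obtain ⟨c, hc⟩ := c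
        have hc0 : R.eval c = 0 := by
          rw [Multiset.mem_toFinset] at hc
          exact Polynomial.isRoot_of_mem_roots hc
        let I : Ideal Γ(X, D.U0) := Ideal.span {D.t - cst k X D.U0 c, ay}
        have hI : I ≠ ⊤ := by
          intro htop
          obtain ⟨u, v, huv⟩ := Ideal.mem_span_pair.1 (show (1 : Γ(X, D.U0)) ∈ I by rw [htop]; trivial)
          obtain ⟨p, q, hu⟩ := H.exists_normal_form_sections hy hy' u
          obtain ⟨p', q', hv⟩ := H.exists_normal_form_sections hy hy' v
          have e1 := congrArg (gm D.mem0) huv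
          rw [map_add, map_mul, map_mul, map_sub, gm_cst, hu, hv, hay, map_one] at e1
          change _ * (D.T - _) + _ = _ at e1
          let q'' := q * (Polynomial.X - Polynomial.C c) + p'
          let p'' := p * (Polynomial.X - Polynomial.C c) + q' * R - 1
          have hzero : Polynomial.aeval D.T p'' + Polynomial.aeval D.T q'' * y = 0 := by
            simp only [p'', q'', map_add, map_sub, map_mul, map_one, Polynomial.aeval_X, Polynomial.aeval_C, ← h]
            linear_combination e1
          have hq : q'' = 0 := by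
            by_contra hq
            exact H.notMem_range hy hy' (p := -p'') hq (by rw [map_neg]; linear_combination hzero)
          have hp : p'' = 0 := H.aeval_injective (by simpa [hq] using hzero)
          have := congrArg (Polynomial.eval c) hp
          simp [p'', hc0] at this
        obtain ⟨m, hm, hIm⟩ := Ideal.exists_le_maximal I hI
        let x := D.aff0.fromSpec ⟨m, hm.isPrime⟩
        have hxU : x ∈ D.U0 := D.aff0.range_fromSpec.le ⟨_, rfl⟩
        have hvan : ∀ a ∈ I, (X.evaluation D.U0 x hxU).hom a = 0 := fun a ha => by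
          refine (X.evaluation_eq_zero_iff_notMem_basicOpen x hxU a).2 fun hmem => ?_
          have : (⟨m, hm.isPrime⟩ : PrimeSpectrum Γ(X, D.U0)) ∈ D.aff0.fromSpec ⁻¹ᵁ X.basicOpen a := hmem
          rw [D.aff0.fromSpec_preimage_basicOpen] at this
          exact this (hIm ha)
        have h1 := hvan _ (Ideal.subset_span (Set.mem_insert _ _))
        have h2' := hvan _ (Ideal.subset_span (Set.mem_insert_of_mem _ rfl))
        have hxc : IsClosed ({x} : Set X) := hclosed D.mem0 hxU (hay ▸ hy0) h2'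
        have hxA : x ∈ A := ⟨hxc, (hfix hxU hxc).2 h2', hxU⟩
        refine ⟨⟨x, hxA⟩, Subtype.ext (hinj x ?_)⟩
        rw [map_sub, evaluation_cst, sub_eq_zero] at h1
        exact (hval' ⟨x, hxA⟩).symm.trans h1
    rw [Nat.card_eq_of_bijective F hF, Nat.card_eq_fintype_card, Fintype.card_coe, hcount]
  -- infinity
  have hU1 : ∀ {x : X}, x ∉ D.U0 → x ∈ D.U1 := fun {x} hx => (D.cover (x := x) trivial).resolve_left hx
  have hov : D.U1 ⊓ D.U0 = X.basicOpen D.t1 := by
    rw [D.loc0]
    exact TMul.genLocus_inf (TMul.homOf D.s0) D.gen1 (by rw [TMul.val_homOf]; exact D.rel1)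
  have ht1 : ∀ {x : X} (hx : x ∉ D.U0), (X.evaluation D.U1 x (hU1 hx)).hom D.t1 = 0 := fun {x} hx => by
    refine (X.evaluation_eq_zero_iff_notMem_basicOpen x (hU1 hx) D.t1).2 fun hm => hx ?_
    rw [← hov] at hm; exact hm.2
  have ht10 : gm D.mem1 D.t1 ≠ 0 := fun h0 => one_ne_zero ((D.gm_t1_mul_T).symm.trans (by rw [h0, zero_mul]))
  have hT0 : D.T ≠ 0 := fun h0 => one_ne_zero ((D.gm_t1_mul_T).symm.trans (by rw [h0, mul_zero]))
  obtain ⟨b', hb'⟩ := Pencil.exists_top_coeff (P := D) hR
  have hbsq : b ^ 2 = cst k X D.U1 (R.coeff (2 * g + 2)) + b' * D.t1 := gm_injective D.mem1 (by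
    refine mul_right_cancel₀ (pow_ne_zero (2 * g + 2) hT0) ?_
    rw [hb', ← h, map_pow, show 2 * g + 2 = (g + 1) * 2 by ring, pow_mul, ← mul_pow, hb])
  have hbval : ∀ {x : X} (hx : x ∉ D.U0), (X.evaluation D.U1 x (hU1 hx)).hom b ^ 2 =
      algebraMap k (X.residueField x) (R.coeff (2 * g + 2)) := fun {x} hx => by
    rw [← map_pow, hbsq, map_add, map_mul, ht1 hx, mul_zero, add_zero, evaluation_cst]
  have hempty : R.natDegree = 2 * g + 2 → B = ∅ := by
    intro hdeg
    refine Set.eq_empty_of_forall_notMem fun x hx' => ?_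
    obtain ⟨hxc, hσx, hx⟩ := hx'
    have hτT : ffMap σ eσ D.T = D.T := ffMap_fixes f hf e σ hσf eσ (IntermediateField.subset_adjoin k _ rfl)
    have hanti : ffMap σ eσ (gm D.mem1 b) = -gm D.mem1 b := by
      refine mul_right_cancel₀ (pow_ne_zero (g + 1) hT0) ?_
      rw [neg_mul, hb, ← hσy, ← hb, map_mul, map_pow, hτT]
    have := evaluation_eq_zero_of_anti h2 σ hσp eσ hσx (hrat _ hxc) (hU1 hx) D.mem1 b hanti
    have e2 := hbval hx
    rw [this, zero_pow (by omega : (2 : ℕ) ≠ 0)] at e2
    have hlead : R.leadingCoeff = 0 := by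
      rw [Polynomial.leadingCoeff, hdeg]; exact (map_eq_zero _).1 e2.symm
    rw [Polynomial.leadingCoeff_eq_zero] at hlead
    rw [hlead, Polynomial.natDegree_zero] at hR'; omega
  have hB : Nat.card B = (2 * g + 2) - R.natDegree := by
    obtain hdeg | hdeg := Nat.eq_or_lt_of_le hR
    · rw [hdeg, Nat.sub_self, hempty hdeg]
      simp
    · have hdeg' : R.natDegree = 2 * g + 1 := by omega
      rw [hdeg', show 2 * g + 2 - (2 * g + 1) = 1 by omega]
      have hb0 : ∀ {x : X} (hx : x ∉ D.U0), (X.evaluation D.U1 x (hU1 hx)).hom b = 0 := fun {x} hx => by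
        have e2 := hbval hx
        rw [Polynomial.coeff_eq_zero_of_natDegree_lt (by omega), map_zero] at e2
        exact (pow_eq_zero_iff two_ne_zero).1 e2
      have hone : ∀ {x x' : X}, x ∉ D.U0 → x' ∉ D.U0 → x = x' := by
        intro x x' hx hx'
        refine eq_of_vanishing D.aff1 (hU1 hx) (hU1 hx') (hclosed D.mem1 (hU1 hx') ht10 (ht1 hx')) fun a ha => ?_
        have hov' : D.U0 ⊓ D.U1 = X.basicOpen D.t := by
          rw [← TMul.genLocus_inf (TMul.homOf D.s1) D.gen0 (c := D.t) (by rw [TMul.val_homOf]; exact D.rel)]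
          refine congrArg (D.U0 ⊓ ·) ?_
          exact (ProjMor.genLocus_pull1 (ProjMor.genDegOne_projSpace 1 k) f _).symm
        have hle0 : X.basicOpen D.t ≤ D.U0 := X.basicOpen_le _
        have hle1 : X.basicOpen D.t ≤ D.U1 := hov'.ge.trans inf_le_right
        have hη : genericPoint X ∈ X.basicOpen D.t := hov' ▸ ⟨D.mem0, D.mem1⟩
        letI := (X.presheaf.map (homOfLE hle0).op).hom.toAlgebra
        haveI : IsLocalization.Away D.t Γ(X, X.basicOpen D.t) := D.aff0.isLocalization_basicOpen D.t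
        obtain ⟨m, u, hu⟩ := IsLocalization.Away.surj D.t (resO X hle1 a)
        have e1 := congrArg (gm hη) hu
        rw [map_mul, map_pow] at e1
        change gm hη (resO X hle1 a) * gm hη (resO X hle0 D.t) ^ m = gm hη (resO X hle0 u) at e1
        rw [gm_resO, gm_resO, gm_resO] at e1
        change gm D.mem1 a * D.T ^ m = gm D.mem0 u at e1
        have hzs : gm D.mem1 a * D.T ^ (g + 1 + m) ∈ D.space k (g + 1 + m) :=
          ⟨u * D.t ^ (g + 1), a, by
            rw [map_mul, map_pow, ← e1]
            show gm D.mem1 a * D.T ^ m * D.T ^ (g + 1) = _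
            rw [pow_add _ (g + 1) m]; ring, rfl⟩
        obtain ⟨p, q, hp, hq, hpq⟩ := H.exists_normal_form hy hy' m hzs
        obtain ⟨bp, hbp⟩ := Pencil.exists_top_coeff (P := D) hp
        obtain ⟨bq, hbq⟩ := Pencil.exists_top_coeff (P := D) hq
        have ha' : a = (cst k X D.U1 (p.coeff (g + 1 + m)) + bp * D.t1) +
            (cst k X D.U1 (q.coeff m) + bq * D.t1) * b := gm_injective D.mem1 (by
          refine mul_right_cancel₀ (pow_ne_zero (g + 1 + m) hT0) ?_
          rw [hpq, ← hbp, ← hbq, ← hb]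
          simp only [map_add, map_mul]
          ring)
        rw [ha', map_add, map_mul, hb0 hx', mul_zero, add_zero, map_add, map_mul, ht1 hx', mul_zero, add_zero,
          evaluation_cst, map_eq_zero] at ha
        rw [ha', map_add, map_mul, hb0 hx, mul_zero, add_zero, map_add, map_mul, ht1 hx, mul_zero, add_zero,
          evaluation_cst, ha, map_zero]
      obtain ⟨x, hx⟩ : ∃ x : X, x ∉ D.U0 := by
        by_contra! hall
        have hle : D.U1 ≤ D.U0 := fun x _ => hall x
        refine H.T_pow_succ_notMem 0 ⟨D.t, resO X hle D.t, ?_, ?_⟩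
        · rw [zero_add, pow_one]; rfl
        · rw [gm_resO, pow_zero, mul_one, zero_add, pow_one]; rfl
      have hxc := hclosed D.mem1 (hU1 hx) ht10 (ht1 hx)
      have hσx : σ x = x := hone (fun hm => hx (by
        show f x ∈ CycDeg.chartU k 0
        rw [← hσfx]; exact hm)) hx
      exact Nat.card_eq_one_iff_exists.2 ⟨⟨x, hxc, hσx, hx⟩, fun z => Subtype.ext (hone z.2.2.2 hx)⟩
  have hsplit : {x : X | IsClosed ({x} : Set X) ∧ σ x = x} = A ∪ B := by
    ext x; simp only [A, B, Set.mem_setOf_eq, Set.mem_union]; tauto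
  have hdisj : Disjoint A B := Set.disjoint_left.2 fun x hx hx' => hx'.2.2 hx.2.2
  have hAfin : A.Finite := Set.finite_coe_iff.1 (Nat.finite_of_card_ne_zero (by omega))
  have hBfin : B.Finite := by
    obtain hdeg | hdeg := Nat.eq_or_lt_of_le hR
    · rw [hempty hdeg]; exact Set.finite_empty
    · exact Set.finite_coe_iff.1 (Nat.finite_of_card_ne_zero (by omega))
  show Nat.card ↥{x : X | IsClosed ({x} : Set X) ∧ σ x = x} = _
  rw [hsplit, Nat.card_coe_set_eq, Set.ncard_union_eq hdisj hAfin hBfin, ← Nat.card_coe_set_eq, ← Nat.card_coe_set_eq,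
    hA, hB]
  omega

end Groth.Agent.W7Pencil
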