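import Groth.Agent.W7Pencil.Cover
import Groth.Agent.InvGen.Basic
import Groth.Agent.Intersect.Push
import Groth.Prelude.Def_FinCov
import Mathlib.RingTheory.PrincipalIdealDomain
import Mathlib.LinearAlgebra.FreeModule.PID
import Mathlib.RingTheory.Trace.Basic

/-!
# The kernel of the trace of a double cover of the line
-/

set_option autoImplicit false
set_option linter.style.haveILetI false
set_option backward.isDefEq.respectTransparency false

universe u

open CategoryTheory CategoryTheory.Limits AlgebraicGeometry TopologicalSpace Opposite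
open Groth.Agent Groth.Agent.CohFinite Groth.Agent.CurveRR
open Groth.Agent.QC (res resO)

noncomputable section

namespace Groth.Agent.W7Pencil

variable {k : Type u} [Field k] {X : Scheme.{u}}

/-- The trace of one is the degree. -/
theorem trace_one (f : X ⟶ CohB1.ProjSpace 1 k) [IsFinite f] [Flat f] {n : ℕ}
    (hr : ∀ y : CohB1.ProjSpace 1 k, f.finrank y = n)
    (τ : (Scheme.Modules.pushforward f).obj (Coh.structureModule X) ⟶ Coh.structureModule (CohB1.ProjSpace 1 k))
    (hτ : FinCov.IsTraceHom f τ) (i : Fin 2) :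
    (τ.val.app (op (CycDeg.chartU k i))).hom (1 : Γ(X, f ⁻¹ᵁ CycDeg.chartU k i)) =
      (n : Γ(CohB1.ProjSpace 1 k, CycDeg.chartU k i)) := by
  let Y := CohB1.ProjSpace 1 k
  let U : Y.Opens := CycDeg.chartU k i
  have hU : IsAffineOpen U := CycDeg.isAffineOpen_chartU k i
  obtain ⟨E, -, -⟩ := CycDeg.exists_chart_coord k i
  haveI : IsDomain Γ(Y, U) := E.toMulEquiv.isDomain (Polynomial k)
  haveI : IsPrincipalIdealRing Γ(Y, U) := IsPrincipalIdealRing.of_surjective E.symm.toRingHom E.symm.surjective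
  letI : Algebra Γ(Y, U) Γ(X, f ⁻¹ᵁ U) := (f.app U).hom.toAlgebra
  have hfin : (f.app U).hom.Finite := f.finite_app U hU
  have hflat : (f.app U).hom.Flat := by
    rw [← Scheme.Hom.appLE_eq_app]
    exact HasRingHomProperty.appLE @Flat f inferInstance ⟨U, hU⟩ ⟨_, hU.preimage f⟩ le_rfl
  haveI : Module.Finite Γ(Y, U) Γ(X, f ⁻¹ᵁ U) := hfin
  haveI : Module.Flat Γ(Y, U) Γ(X, f ⁻¹ᵁ U) := hflat
  haveI : Module.IsTorsionFree Γ(Y, U) Γ(X, f ⁻¹ᵁ U) := inferInstance
  haveI : Module.Free Γ(Y, U) Γ(X, f ⁻¹ᵁ U) := Module.free_of_finite_type_torsion_free'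
  rw [hτ U hU inferInstance inferInstance]
  rw [← map_one (algebraMap Γ(Y, U) Γ(X, f ⁻¹ᵁ U)), Algebra.trace_algebraMap, nsmul_one]
  haveI : Nontrivial Γ(Y, U) := E.toEquiv.nontrivial
  let P : PrimeSpectrum Γ(Y, U) := Classical.arbitrary _
  have hP := hr (hU.fromSpec P)
  have sq : IsPullback (hU.preimage f).fromSpec (Spec.map (f.app U)) f hU.fromSpec := by
    refine (IsOpenImmersion.isPullback (Spec.map (f.app U)) (hU.preimage f).fromSpec hU.fromSpec f ?_ ?_).flip
    · rw [← hU.SpecMap_appLE_fromSpec f (hU.preimage f) le_rfl, Scheme.Hom.appLE_eq_app]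
    · rw [(hU.preimage f).opensRange_fromSpec, hU.opensRange_fromSpec]
  rw [← Scheme.Hom.finrank_of_isPullback _ _ _ _ sq, Scheme.Hom.finrank_SpecMap_eq_finrank hfin hflat] at hP
  have h1 := congrFun (Module.rankAtStalk_eq_finrank_of_free (R := Γ(Y, U)) (M := Γ(X, f ⁻¹ᵁ U))) P
  have h2 : Module.finrank Γ(Y, U) Γ(X, f ⁻¹ᵁ U) = n := h1.symm.trans hP
  rw [h2]

variable [X.Over (Spec (CommRingCat.of k))] [IsProper (X ↘ Spec (CommRingCat.of k))]

/-- The degree of the kernel of the trace. -/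
theorem deg_kernel_trace (hdim : topologicalKrullDim X ≤ 1) (h0 : h k (Coh.structureModule X) 0 = 1)
    (h2 : (2 : k) ≠ 0) (f : X ⟶ CohB1.ProjSpace 1 k) [IsFinite f] [Flat f]
    (hf : f ≫ CohB1.ProjSpace.toSpec 1 k = X ↘ Spec (CommRingCat.of k))
    (hr : ∀ y : CohB1.ProjSpace 1 k, f.finrank y = 2)
    (τ : (Scheme.Modules.pushforward f).obj (Coh.structureModule X) ⟶ Coh.structureModule (CohB1.ProjSpace 1 k))
    (hτ : FinCov.IsTraceHom f τ) :
    @Curv2.deg k _ (CohB1.ProjSpace 1 k) ⟨CohB1.ProjSpace.toSpec 1 k⟩ (kernel τ) 1 =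
      -((Curv2.genus k X : ℤ) + 1) := by
  haveI := isNoetherian_of_proper k X
  let Y := CohB1.ProjSpace 1 k
  haveI := ProjMor.isProper_toSpec 1 k
  letI : Y.Over (Spec (CommRingCat.of k)) := ⟨CohB1.ProjSpace.toSpec 1 k⟩
  haveI : IsProper (Y ↘ Spec (CommRingCat.of k)) := ProjMor.isProper_toSpec 1 k
  haveI := isNoetherian_of_proper k Y
  let M := (Scheme.Modules.pushforward f).obj (Coh.structureModule X)
  haveI hepi : Epi τ := InvGen.epi_of_locally τ fun W t x hx => by
    obtain ⟨i, hi⟩ : ∃ i, x ∈ CycDeg.chartU k i :=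
      (CycDeg.mem_chartU_cases k x).elim (fun h => ⟨0, h⟩) (fun h => ⟨1, h⟩)
    let V := W ⊓ CycDeg.chartU k i
    refine ⟨V, inf_le_left, ⟨hx, hi⟩, ?_⟩
    let half : Γ(Y, V) := cst k Y V (2⁻¹ : k)
    let b : Γ(Y, V) := (show Γ(Y, V) from res (Coh.structureModule Y) inf_le_left t)
    refine ⟨(b * half) • res M (inf_le_right : V ≤ CycDeg.chartU k i)
      (show Γ(M, CycDeg.chartU k i) from (1 : Γ(X, f ⁻¹ᵁ CycDeg.chartU k i))), ?_⟩
    rw [TMul.app_smul, ← Groth.Agent.QC.app_res]
    let one' : Γ(M, CycDeg.chartU k i) := (1 : Γ(X, f ⁻¹ᵁ CycDeg.chartU k i))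
    have h1 : (τ.app (CycDeg.chartU k i) one' : Γ(Y, CycDeg.chartU k i)) = (2 : Γ(Y, CycDeg.chartU k i)) :=
      (trace_one f hr τ hτ i).trans (Nat.cast_ofNat (R := Γ(Y, CycDeg.chartU k i)))
    refine (congrArg (fun v : Γ(Y, CycDeg.chartU k i) =>
      b * half * resO Y (inf_le_right : V ≤ CycDeg.chartU k i) v) h1).trans ?_
    show b * half * resO Y (inf_le_right : V ≤ CycDeg.chartU k i) 2 = b
    rw [map_ofNat, ← map_ofNat (cst k Y V) 2, mul_assoc, ← map_mul, inv_mul_cancel₀ h2, map_one, mul_one]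
  have hO : Coh.IsCoh (Coh.structureModule Y) := RefStalk.isCoh_structureModule
  have hM : Coh.IsCoh M := Intersect.isCoh_push' f RefStalk.isCoh_structureModule
  have hS : (ShortComplex.mk (kernel.ι τ) τ (kernel.condition τ)).ShortExact :=
    { exact := ShortComplex.exact_kernel τ, mono_f := inferInstance, epi_g := hepi }
  have hK : Coh.IsCoh (kernel τ) := Groth.Agent.QC.isCoh_kernel hM hO.1 τ
  have hadd := euler_add (k := k) hS hK hM hO
  change Curv2.euler k Y M = Curv2.euler k Y (kernel τ) + Curv2.euler k Y (Coh.structureModule Y) at hadd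
  have hd : topologicalKrullDim Y ≤ 1 := (Groth.Agent.S10829.result k 1).le
  have heM : Curv2.euler k Y M = Curv2.euler k X (Coh.structureModule X) := by
    haveI : (Coh.structureModule X).IsQuasicoherent := Groth.Agent.QC.isQCoh_unit X
    rw [euler_eq hd, euler_eq hdim]
    obtain ⟨e0⟩ := hh_push_linear k f hf (Coh.structureModule X)
      (CohQC.directAcyclic_of_isAffineHom f (Coh.structureModule X)) 0
    obtain ⟨e1⟩ := hh_push_linear k f hf (Coh.structureModule X)
      (CohQC.directAcyclic_of_isAffineHom f (Coh.structureModule X)) 1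
    rw [show h k M 0 = h k (Coh.structureModule X) 0 from e0.finrank_eq.symm,
      show h k M 1 = h k (Coh.structureModule X) 1 from e1.finrank_eq.symm]
  have hY : Curv2.euler k Y (Coh.structureModule Y) = 1 := by
    have hvO := Groth.Agent.ProjCech.structureModule_vanish 1 k 1 one_pos
    have hO0 : h k (Coh.structureModule Y) 0 = 1 := by
      obtain ⟨i⟩ := GrT.nonempty_twist_zero_iso (𝒜 := CohB1.polyGrading 1 k)
      have := Groth.Agent.S4466.result k 1 one_pos 0
      rw [Finset.sum_range_succ, Finset.sum_range_one, show Module.finrank k (Coh.HH _ (Twist.twistProjSpace 1 k 0) 1) = 0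
        from (h_eq_of_iso (k := k) i 1).trans (h_eq_zero hvO)] at this
      refine (h_eq_of_iso (k := k) i 0).symm.trans ?_
      norm_num [Ring.choose_one_right] at this
      exact_mod_cast this
    rw [euler_eq hd, hO0, h_eq_zero hvO]
    rfl
  rw [euler_structure hdim h0] at heM
  show Curv2.deg k Y (kernel τ) 1 = _
  rw [Curv2.deg, hY]
  push_cast
  omega

end Groth.Agent.W7Pencil
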