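import Groth.Agent.W7Pencil.Theory
import Groth.Agent.CycDim.DegZero
import Mathlib.RingTheory.MvPolynomial.Basic

/-!
# The affine plane model of the first chart of a double cover
-/

set_option autoImplicit false
set_option linter.style.haveILetI false
set_option backward.isDefEq.respectTransparency false

universe u

open CategoryTheory CategoryTheory.Limits AlgebraicGeometry TopologicalSpace
open Groth.Agent Groth.Agent.CurveRR
open Groth.Agent.QC (res resO)

noncomputable section

namespace Groth.Agent.W7Pencil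

attribute [local instance] secMod Curv2.stalkAlgebra

variable {k : Type u} [Field k] {X : Scheme.{u}} [IsIntegral X] [X.Over (Spec (CommRingCat.of k))]
  [IsProper (X ↘ Spec (CommRingCat.of k))] {L : X.Modules} {P : Pencil L} {g : ℕ}

/-- The plane equation. -/
def planeEq (p q : Polynomial k) : MvPolynomial (Fin 2) k :=
  MvPolynomial.X 1 ^ 2 + Polynomial.aeval (MvPolynomial.X 0) q * MvPolynomial.X 1 -
    Polynomial.aeval (MvPolynomial.X 0) p

theorem exists_linear_form {R : Type u} [CommRing R] (p q : Polynomial R) (F : MvPolynomial (Fin 2) R) :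
    ∃ a b : Polynomial R, F - (Polynomial.aeval (MvPolynomial.X 0) a +
      Polynomial.aeval (MvPolynomial.X 0) b * MvPolynomial.X 1) ∈ Ideal.span
      ({MvPolynomial.X 1 ^ 2 + Polynomial.aeval (MvPolynomial.X 0) q * MvPolynomial.X 1 -
        Polynomial.aeval (MvPolynomial.X 0) p} : Set (MvPolynomial (Fin 2) R)) := by
  induction F using MvPolynomial.induction_on with
  | C c => exact ⟨Polynomial.C c, 0, by simp [MvPolynomial.algebraMap_eq]⟩
  | add F G hF hG =>
    obtain ⟨a, b, h⟩ := hF
    obtain ⟨a', b', h'⟩ := hG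
    exact ⟨a + a', b + b', by rw [map_add, map_add]; convert add_mem h h' using 1; ring⟩
  | mul_X F i hF =>
    obtain ⟨a, b, h⟩ := hF
    fin_cases i
    · refine ⟨a * Polynomial.X, b * Polynomial.X, ?_⟩
      rw [map_mul, map_mul, Polynomial.aeval_X]
      convert Ideal.mul_mem_right (MvPolynomial.X 0) _ h using 1
      simp only [Fin.zero_eta, Fin.isValue]
      ring
    · refine ⟨b * p, a - b * q, ?_⟩
      rw [map_mul, map_sub, map_mul]
      convert add_mem (Ideal.mul_mem_right (MvPolynomial.X 1) _ h) (Ideal.mul_mem_left _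
        (Polynomial.aeval (MvPolynomial.X 0) b) (Ideal.mem_span_singleton_self
          (MvPolynomial.X 1 ^ 2 + Polynomial.aeval (MvPolynomial.X 0) q * MvPolynomial.X 1 -
            Polynomial.aeval (MvPolynomial.X 0) p))) using 1
      simp only [Fin.mk_one, Fin.isValue]
      ring

theorem Hyper.exists_affine_model (H : Hyper k P g) {y : X.functionField} (hy : y ∈ P.space k (g + 1))
    (hy' : y ∉ P.polys k (g + 1)) {p q : Polynomial k}
    (h : y ^ 2 + Polynomial.aeval P.T q * y = Polynomial.aeval P.T p) :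
    ∃ e : (P.U0 : Scheme.{u}) ≅ Spec (CommRingCat.of (MvPolynomial (Fin 2) k ⧸ Ideal.span
        {MvPolynomial.X 1 ^ 2 + Polynomial.aeval (MvPolynomial.X 0) q * MvPolynomial.X 1 -
          Polynomial.aeval (MvPolynomial.X 0) p})),
      e.hom ≫ Spec.map (CommRingCat.ofHom ((Ideal.Quotient.mk (Ideal.span
        {MvPolynomial.X 1 ^ 2 + Polynomial.aeval (MvPolynomial.X 0) q * MvPolynomial.X 1 -
          Polynomial.aeval (MvPolynomial.X 0) p})).comp (MvPolynomial.C : k →+* MvPolynomial (Fin 2) k))) =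
        P.U0.ι ≫ (X ↘ Spec (CommRingCat.of k)) := by
  obtain ⟨ay, by', hay, -⟩ := id hy
  let I := Ideal.span ({MvPolynomial.X 1 ^ 2 + Polynomial.aeval (MvPolynomial.X 0) q * MvPolynomial.X 1 -
    Polynomial.aeval (MvPolynomial.X 0) p} : Set (MvPolynomial (Fin 2) k))
  let Φ : MvPolynomial (Fin 2) k →+* Γ(X, P.U0) := MvPolynomial.eval₂Hom (cst k X P.U0) ![P.t, ay]
  have hΦ : ∀ a : Polynomial k, gm P.mem0 (Φ (Polynomial.aeval (MvPolynomial.X 0) a)) = Polynomial.aeval P.T a := by
    intro a
    rw [aeval_eq_gm, Polynomial.aeval_def, Polynomial.hom_eval₂]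
    congr 1
    rw [Polynomial.coe_eval₂RingHom]
    congr 1
    · exact RingHom.ext fun c => by simp [Φ, MvPolynomial.algebraMap_eq]
    · simp [Φ]
  have hΦX : gm P.mem0 (Φ (MvPolynomial.X 1)) = y := by simp [Φ, hay]
  have hI : ∀ F ∈ I, Φ F = 0 := fun F hF => by
    obtain ⟨c, rfl⟩ := Ideal.mem_span_singleton'.mp hF
    refine gm_injective P.mem0 ?_
    rw [map_mul, map_mul, map_sub, map_sub, map_add, map_add, map_pow, map_pow, map_mul, map_mul, hΦ, hΦ, hΦX,
      map_zero, h, sub_self, mul_zero]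
  let χ : MvPolynomial (Fin 2) k ⧸ I →+* Γ(X, P.U0) := Ideal.Quotient.lift I Φ hI
  have hval : ∀ a b : Polynomial k,
      gm P.mem0 (Φ (Polynomial.aeval (MvPolynomial.X 0) a + Polynomial.aeval (MvPolynomial.X 0) b * MvPolynomial.X 1)) =
        Polynomial.aeval P.T a + Polynomial.aeval P.T b * y := fun a b => by
    rw [map_add, map_add, map_mul, map_mul, hΦ, hΦ, hΦX]
  have hsurj : Function.Surjective χ := fun s => by
    obtain ⟨a, b, hab⟩ := H.exists_normal_form_sections hy hy' s
    exact ⟨Ideal.Quotient.mk I _, gm_injective P.mem0 ((hval a b).trans hab.symm)⟩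
  have hinj : Function.Injective χ := by
    rw [injective_iff_map_eq_zero]
    intro z hz
    obtain ⟨F, rfl⟩ := Ideal.Quotient.mk_surjective z
    obtain ⟨a, b, hab⟩ := exists_linear_form p q F
    have hz' : Φ F = 0 := hz
    have h1 : Polynomial.aeval P.T a + Polynomial.aeval P.T b * y = 0 := by
      rw [← hval, show Φ (_ + _) = Φ F from
        (sub_eq_zero.mp ((map_sub Φ _ _).symm.trans (hI _ hab))).symm, hz', map_zero]
    have hb : b = 0 := by
      by_contra hb
      exact H.notMem_range hy hy' (p := -a) hb (by rw [map_neg]; exact eq_neg_of_add_eq_zero_right h1)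
    have ha : a = 0 := H.aeval_injective (by simpa [hb] using h1)
    simp only [ha, hb, map_zero, zero_mul, add_zero, sub_zero] at hab
    exact Ideal.Quotient.eq_zero_iff_mem.mpr hab
  let R : CommRingCat.of (MvPolynomial (Fin 2) k ⧸ I) ≅ CommRingCat.of Γ(X, P.U0) :=
    (RingEquiv.ofBijective χ ⟨hinj, hsurj⟩).toCommRingCatIso
  refine ⟨P.aff0.isoSpec ≪≫ Scheme.Spec.mapIso R.op, ?_⟩
  rw [← P.aff0.isoSpec_hom_fromSpec_assoc, Iso.trans_hom, Category.assoc, CycDeg.fromSpec_comp]
  refine congrArg (P.aff0.isoSpec.hom ≫ ·) ?_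
  show Spec.map R.hom ≫ Spec.map _ = _
  rw [← Spec.map_comp]
  refine congrArg Spec.map ?_
  ext c
  show χ (Ideal.Quotient.mk I (MvPolynomial.C c)) = _
  rw [Ideal.Quotient.lift_mk]
  exact MvPolynomial.eval₂Hom_C _ _ c

end Groth.Agent.W7Pencil
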