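import Groth.Agent.TMul.Ample
import Groth.Agent.RPushQC.Trunc
import Groth.Agent.CurveRR.Zero
import Groth.Agent.CurveRR.Deg
import Groth.Agent.WeilLib.Trdeg

/-!
# Sections of the powers of a pencil as rational functions
-/

set_option autoImplicit false
set_option linter.style.haveILetI false
set_option backward.isDefEq.respectTransparency false

universe u

open CategoryTheory CategoryTheory.Limits AlgebraicGeometry TopologicalSpace Opposite
open Groth.Agent Groth.Agent.CurveRR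
open Groth.Agent.QC (res resO res_res res_smul resO_resO res_self)
open TMul (IsGen pw coeffEquiv)

noncomputable section

namespace Groth.Agent.W7Pencil

attribute [local instance] secMod Curv2.stalkAlgebra

variable {X : Scheme.{u}} [IsIntegral X]

/-- Two generating sections of an invertible module with their ratio on the first chart. -/
structure Pencil (L : X.Modules) where
  s0 : Γ(L, ⊤)
  s1 : Γ(L, ⊤)
  U0 : X.Opens
  U1 : X.Opens
  gen0 : IsGen (res L (le_top : U0 ≤ ⊤) s0)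
  gen1 : IsGen (res L (le_top : U1 ≤ ⊤) s1)
  cover : ⊤ ≤ U0 ⊔ U1
  t : Γ(X, U0)
  rel : res L (le_top : U0 ≤ ⊤) s1 = t • res L (le_top : U0 ≤ ⊤) s0
  t1 : Γ(X, U1)
  rel1 : res L (le_top : U1 ≤ ⊤) s0 = t1 • res L (le_top : U1 ≤ ⊤) s1
  loc0 : U0 = CohB1.genLocus L (TMul.homOf s0)
  aff0 : IsAffineOpen U0
  aff1 : IsAffineOpen U1
  mem0 : genericPoint X ∈ U0
  mem1 : genericPoint X ∈ U1

/-- The restriction of functions to the function field. -/
def gm {U : X.Opens} (h : genericPoint X ∈ U) : Γ(X, U) →+* X.functionField :=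
  (X.presheaf.germ U (genericPoint X) h).hom

theorem gm_injective {U : X.Opens} (h : genericPoint X ∈ U) : Function.Injective (gm h) :=
  germ_injective_of_isIntegral X _ h

theorem gm_resO {U V : X.Opens} (e : V ≤ U) (h : genericPoint X ∈ V) (a : Γ(X, U)) :
    gm h (resO X e a) = gm (e h) a :=
  TopCat.Presheaf.germ_res_apply X.presheaf (homOfLE e) _ h a

variable {L : X.Modules} (P : Pencil L)

/-- The rational function of the pencil. -/
def Pencil.T : X.functionField := gm P.mem0 P.t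

theorem res_pw_gen0 (m : ℕ) {W : X.Opens} (h : W ≤ P.U0) :
    IsGen (pw (res L (le_top : W ≤ ⊤) P.s0) m) := by
  have := (P.gen0.res h)
  rw [res_res] at this
  exact TMul.isGen_pw this m

theorem res_pw_rel (m : ℕ) {W : X.Opens} (h : W ≤ P.U0) :
    pw (res L (le_top : W ≤ ⊤) P.s1) m = resO X h P.t ^ m • pw (res L (le_top : W ≤ ⊤) P.s0) m := by
  rw [← TMul.pw_smul, ← res_res L h (le_top : P.U0 ≤ ⊤) P.s0, ← res_smul, ← P.rel, res_res]

/-- The coefficient on the first chart. -/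
def Pencil.coef0 (m : ℕ) (σ : Γ(CohB1.tensorPow L m, ⊤)) : Γ(X, P.U0) :=
  (coeffEquiv (TMul.isGen_pw P.gen0 m) le_rfl).symm (res (CohB1.tensorPow L m) le_top σ)

theorem Pencil.coef0_spec (m : ℕ) (σ : Γ(CohB1.tensorPow L m, ⊤)) :
    P.coef0 m σ • pw (res L (le_top : P.U0 ≤ ⊤) P.s0) m = res (CohB1.tensorPow L m) le_top σ := by
  have h := (coeffEquiv (TMul.isGen_pw P.gen0 m) le_rfl).apply_symm_apply
    (res (CohB1.tensorPow L m) (le_top : P.U0 ≤ ⊤) σ)
  change P.coef0 m σ • res (CohB1.tensorPow L m) (le_rfl : P.U0 ≤ P.U0) (pw (res L (le_top : P.U0 ≤ ⊤) P.s0) m) = _ at h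
  rwa [res_self] at h

theorem Pencil.coef0_unique (m : ℕ) (σ : Γ(CohB1.tensorPow L m, ⊤)) (a : Γ(X, P.U0))
    (h : a • pw (res L (le_top : P.U0 ≤ ⊤) P.s0) m = res (CohB1.tensorPow L m) le_top σ) :
    P.coef0 m σ = a := by
  refine (TMul.isGen_pw P.gen0 m P.U0 le_rfl).1 ?_
  simp only [res_self]
  rw [P.coef0_spec, h]

variable {k : Type u} [Field k] [X.Over (Spec (CommRingCat.of k))]

theorem gm_cst {U : X.Opens} (h : genericPoint X ∈ U) (c : k) :
    gm h (cst k X U c) = algebraMap k X.functionField c :=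
  gm_resO le_top h _

variable (k) in
/-- The rational functions with poles bounded by `m` times the pencil. -/
def Pencil.space (m : ℕ) : Submodule k X.functionField where
  carrier := {z | ∃ (a : Γ(X, P.U0)) (b : Γ(X, P.U1)), gm P.mem0 a = z ∧ gm P.mem1 b * P.T ^ m = z}
  add_mem' := by
    rintro _ _ ⟨a, b, rfl, hb⟩ ⟨a', b', rfl, hb'⟩
    exact ⟨a + a', b + b', map_add _ _ _, by rw [map_add, add_mul, hb, hb']⟩
  zero_mem' := ⟨0, 0, map_zero _, by rw [map_zero, zero_mul]⟩
  smul_mem' := by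
    rintro c _ ⟨a, b, rfl, hb⟩
    exact ⟨cst k X P.U0 c * a, cst k X P.U1 c * b, by rw [map_mul, gm_cst, Algebra.smul_def],
      by rw [map_mul, gm_cst, mul_assoc, hb, Algebra.smul_def]⟩

variable (k) in
/-- A section read as a rational function. -/
def Pencil.toFF (m : ℕ) : Γ(CohB1.tensorPow L m, ⊤) →ₗ[k] X.functionField where
  toFun σ := gm P.mem0 (P.coef0 m σ)
  map_add' σ σ' := by
    rw [← map_add]
    refine congrArg _ (P.coef0_unique m _ _ ?_)
    rw [add_smul, P.coef0_spec, P.coef0_spec, map_add]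
  map_smul' c σ := by
    rw [RingHom.id_apply, Algebra.smul_def, ← gm_cst P.mem0 c, ← map_mul]
    refine congrArg _ (P.coef0_unique m _ _ ?_)
    rw [mul_smul, P.coef0_spec]
    show _ = res (CohB1.tensorPow L m) le_top (cst k X ⊤ c • σ)
    rw [res_smul]
    exact congrArg (fun r : Γ(X, P.U0) => r • res (CohB1.tensorPow L m) le_top σ) (resO_resO _ _ _).symm

theorem Pencil.toFF_injective (m : ℕ) : Function.Injective (P.toFF k m) := by
  intro σ σ' h
  have h0 : P.coef0 m σ = P.coef0 m σ' := gm_injective P.mem0 h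
  have e0 : res (CohB1.tensorPow L m) (le_top : P.U0 ≤ ⊤) σ = res _ le_top σ' := by
    rw [← P.coef0_spec, ← P.coef0_spec, h0]
  have hb := fun τ : Γ(CohB1.tensorPow L m, ⊤) =>
    (TMul.isGen_pw P.gen1 m P.U1 le_rfl).2 (res (CohB1.tensorPow L m) le_top τ)
  obtain ⟨b, hb0⟩ := hb σ
  obtain ⟨b', hb1⟩ := hb σ'
  have hbb : b = b' := by
    refine gm_injective P.mem1 ?_
    have h1 : resO X (inf_le_right : P.U0 ⊓ P.U1 ≤ P.U1) b = resO X inf_le_right b' := by
      have hg := P.gen1.res (inf_le_right : P.U0 ⊓ P.U1 ≤ P.U1)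
      refine (TMul.isGen_pw hg m _ le_rfl).1 ?_
      simp only [res_self]
      rw [← TMul.res_pw, ← res_smul, ← res_smul]
      have hb0' : res (CohB1.tensorPow L m) (inf_le_right : P.U0 ⊓ P.U1 ≤ P.U1)
          (b • pw (res L (le_top : P.U1 ≤ ⊤) P.s1) m) = res _ le_top σ := by
        change b • res _ le_rfl _ = _ at hb0
        rw [res_self] at hb0
        rw [hb0, res_res]
      have hb1' : res (CohB1.tensorPow L m) (inf_le_right : P.U0 ⊓ P.U1 ≤ P.U1)
          (b' • pw (res L (le_top : P.U1 ≤ ⊤) P.s1) m) = res _ le_top σ' := by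
        change b' • res _ le_rfl _ = _ at hb1
        rw [res_self] at hb1
        rw [hb1, res_res]
      rw [hb0', hb1', ← res_res _ (inf_le_left : P.U0 ⊓ P.U1 ≤ P.U0) le_top σ,
        ← res_res _ (inf_le_left : P.U0 ⊓ P.U1 ≤ P.U0) le_top σ', e0]
    have := congrArg (gm (U := P.U0 ⊓ P.U1) ⟨P.mem0, P.mem1⟩) h1
    rwa [gm_resO, gm_resO] at this
  refine sub_eq_zero.1 (RPushQC.res_sep _ (le_top : P.U0 ≤ ⊤) le_top P.cover _ ?_ ?_)
  · rw [map_sub, e0, sub_self]
  · rw [map_sub, ← hb0, ← hb1, hbb, sub_self]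

theorem Pencil.range_toFF (m : ℕ) : LinearMap.range (P.toFF k m) = P.space k m := by
  have key : ∀ (W : X.Opens) (h0 : W ≤ P.U0) (b : Γ(X, W)),
      b • pw (res L (le_top : W ≤ ⊤) P.s1) m =
        (b * resO X h0 P.t ^ m) • pw (res L (le_top : W ≤ ⊤) P.s0) m := fun W h0 b => by
    rw [res_pw_rel P m h0, smul_smul]
  ext z
  constructor
  · rintro ⟨σ, rfl⟩
    obtain ⟨b, hb⟩ := (TMul.isGen_pw P.gen1 m P.U1 le_rfl).2 (res (CohB1.tensorPow L m) le_top σ)
    change b • res _ le_rfl _ = _ at hb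
    rw [res_self] at hb
    refine ⟨P.coef0 m σ, b, rfl, ?_⟩
    have h1 := congrArg (res (CohB1.tensorPow L m) (inf_le_right : P.U0 ⊓ P.U1 ≤ P.U1)) hb
    rw [res_smul, TMul.res_pw, res_res, res_res, key _ inf_le_left] at h1
    have h2 := congrArg (res (CohB1.tensorPow L m) (inf_le_left : P.U0 ⊓ P.U1 ≤ P.U0)) (P.coef0_spec m σ)
    rw [res_smul, TMul.res_pw, res_res, res_res] at h2
    have h3 : resO X (inf_le_right : P.U0 ⊓ P.U1 ≤ P.U1) b * resO X inf_le_left P.t ^ m =
        resO X (inf_le_left : P.U0 ⊓ P.U1 ≤ P.U0) (P.coef0 m σ) := by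
      refine (res_pw_gen0 P m (inf_le_left : P.U0 ⊓ P.U1 ≤ P.U0) _ le_rfl).1 ?_
      simp only [res_self]
      exact h1.trans h2.symm
    have h4 := congrArg (gm (U := P.U0 ⊓ P.U1) ⟨P.mem0, P.mem1⟩) h3
    rw [map_mul, map_pow, gm_resO, gm_resO, gm_resO] at h4
    exact h4
  · rintro ⟨a, b, rfl, hb⟩
    have he : resO X (inf_le_left : P.U0 ⊓ P.U1 ≤ P.U0) a =
        resO X inf_le_right b * resO X inf_le_left P.t ^ m := by
      refine gm_injective (U := P.U0 ⊓ P.U1) ⟨P.mem0, P.mem1⟩ ?_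
      rw [map_mul, map_pow, gm_resO, gm_resO, gm_resO]
      exact hb.symm
    obtain ⟨σ, hσ0, -⟩ := RPushQC.glue (CohB1.tensorPow L m) (le_top : P.U0 ≤ ⊤) (le_top : P.U1 ≤ ⊤)
      (inf_le_left : P.U0 ⊓ P.U1 ≤ P.U0) inf_le_right P.cover le_rfl
      (a • pw (res L le_top P.s0) m) (b • pw (res L le_top P.s1) m) (by
        rw [res_smul, res_smul, TMul.res_pw, TMul.res_pw, res_res, res_res, key _ inf_le_left, he])
    exact ⟨σ, congrArg (gm P.mem0) (P.coef0_unique m σ a hσ0.symm)⟩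

theorem Pencil.finrank_space (m : ℕ) :
    Module.finrank k (P.space k m) = h k (CohB1.tensorPow L m) 0 := by
  rw [← P.range_toFF (k := k) m, LinearMap.finrank_range_of_inj (P.toFF_injective m)]
  exact finrank_sec _

end Groth.Agent.W7Pencil
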