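import Groth.Agent.W7Pencil.Sections
import Groth.Agent.NormSect.Basic
import Groth.Agent.CohFinite.Linear
import Mathlib.FieldTheory.IntermediateField.Adjoin.Basic
import Mathlib.RingTheory.Polynomial.Basic
import Mathlib.RingTheory.Algebraic.Integral

/-!
# Function fields of double covers: the rational functions of bounded pole order
-/

set_option autoImplicit false
set_option linter.style.haveILetI false
set_option backward.isDefEq.respectTransparency false

universe u

open CategoryTheory CategoryTheory.Limits AlgebraicGeometry TopologicalSpace Opposite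
open Groth.Agent Groth.Agent.CurveRR
open Groth.Agent.QC (res resO res_res res_smul resO_resO res_self)
open TMul (IsGen pw coeffEquiv)

noncomputable section

namespace Groth.Agent.W7Pencil

attribute [local instance] secMod Curv2.stalkAlgebra

variable {X : Scheme.{u}} [IsIntegral X] {L : X.Modules} (P : Pencil L)

/-- The two ratios are inverse to each other. -/
theorem Pencil.gm_t1_mul_T : gm P.mem1 P.t1 * P.T = 1 := by
  let W := P.U0 ⊓ P.U1
  have hW : genericPoint X ∈ W := ⟨P.mem0, P.mem1⟩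
  have h0 := congrArg (res L (inf_le_left : W ≤ P.U0)) P.rel
  have h1 := congrArg (res L (inf_le_right : W ≤ P.U1)) P.rel1
  rw [res_smul, res_res, res_res] at h0 h1
  rw [h1, smul_smul] at h0
  have hg := P.gen1.res (inf_le_right : W ≤ P.U1)
  rw [res_res] at hg
  have key : resO X (inf_le_left : W ≤ P.U0) P.t * resO X (inf_le_right : W ≤ P.U1) P.t1 = 1 := by
    refine (hg W le_rfl).1 ?_
    simp only [res_res, one_smul]
    exact h0.symm
  have h := congrArg (gm hW) key
  rw [map_mul, map_one, gm_resO, gm_resO] at h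
  rw [mul_comm]
  exact h

variable {k : Type u} [Field k] [X.Over (Spec (CommRingCat.of k))] [IsProper (X ↘ Spec (CommRingCat.of k))]

theorem Pencil.finite_space (hL : PicF.IsInvertible L) (m : ℕ) : Module.Finite k (P.space k m) := by
  haveI := isNoetherian_of_proper k X
  haveI := CohFinite.finite_proper k X _ (isCoh_of_inv (TMul.isInvertible_tensorPow hL m)) 0
  haveI : Module.Finite k Γ(CohB1.tensorPow L m, ⊤) :=
    Module.Finite.equiv (secH0 (k := k) (CohB1.tensorPow L m)).symm
  rw [← P.range_toFF (k := k) m]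
  infer_instance

/-- The hypotheses on a pencil of degree two on a curve of genus `g`. -/
structure Hyper (k : Type u) [Field k] [X.Over (Spec (CommRingCat.of k))] (P : Pencil L) (g : ℕ) : Prop where
  inv : PicF.IsInvertible L
  const : h k (Coh.structureModule X) 0 = 1
  tr : Transcendental k P.T
  hh : ∀ m, g ≤ m → h k (CohB1.tensorPow L m) 0 + g = 2 * m + 1
  int0 : (Polynomial.eval₂RingHom (cst k X P.U0) P.t).IsIntegral
  normal : ∀ x : X, IsIntegrallyClosed (X.presheaf.stalk x)

variable {P} {g : ℕ}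

variable (k) in
/-- Polynomials in `T` of degree at most `m`. -/
def Pencil.polys (P : Pencil L) (m : ℕ) : Submodule k X.functionField :=
  (Polynomial.degreeLT k (m + 1)).map (Polynomial.aeval (R := k) P.T).toLinearMap

omit [IsProper (X ↘ Spec (CommRingCat.of k))] in
theorem aeval_eq_gm (p : Polynomial k) :
    Polynomial.aeval P.T p = gm P.mem0 (Polynomial.eval₂RingHom (cst k X P.U0) P.t p) := by
  rw [Polynomial.coe_eval₂RingHom, Polynomial.hom_eval₂, Polynomial.aeval_def]
  congr 1
  exact RingHom.ext fun c => (gm_cst P.mem0 c).symm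

omit [IsProper (X ↘ Spec (CommRingCat.of k))] in
theorem Pencil.polys_le (P : Pencil L) (m : ℕ) : P.polys k m ≤ P.space k m := by
  classical
  rw [Pencil.polys, Submodule.map_le_iff_le_comap, Polynomial.degreeLT_eq_span_X_pow, Submodule.span_le]
  intro p hp
  simp only [Finset.coe_image, Set.mem_image, Finset.coe_range, Set.mem_Iio] at hp
  obtain ⟨i, hi, rfl⟩ := hp
  refine ⟨P.t ^ i, P.t1 ^ (m - i), ?_, ?_⟩
  · rw [map_pow]; simp [Pencil.T]
  · simp only [AlgHom.toLinearMap_apply, map_pow, Polynomial.aeval_X]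
    calc gm P.mem1 P.t1 ^ (m - i) * P.T ^ m
        = (gm P.mem1 P.t1 * P.T) ^ (m - i) * P.T ^ i := by
          rw [mul_pow, mul_assoc, ← pow_add, Nat.sub_add_cancel (by omega)]
      _ = P.T ^ i := by rw [P.gm_t1_mul_T, one_pow, one_mul]

omit [IsProper (X ↘ Spec (CommRingCat.of k))] in
theorem Pencil.space_mono (P : Pencil L) {m m' : ℕ} (hm : m ≤ m') : P.space k m ≤ P.space k m' := by
  rintro _ ⟨a, b, rfl, hb⟩
  refine ⟨a, b * P.t1 ^ (m' - m), rfl, ?_⟩
  calc gm P.mem1 (b * P.t1 ^ (m' - m)) * P.T ^ m'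
      = gm P.mem1 b * P.T ^ m * (gm P.mem1 P.t1 * P.T) ^ (m' - m) := by
        rw [map_mul, map_pow, mul_pow, show P.T ^ m' = P.T ^ m * P.T ^ (m' - m) by
          rw [← pow_add, Nat.add_sub_cancel' hm]]
        ring
    _ = gm P.mem0 a := by rw [P.gm_t1_mul_T, one_pow, mul_one, hb]

omit [IsProper (X ↘ Spec (CommRingCat.of k))] in
theorem Pencil.space_mul (P : Pencil L) {m m' : ℕ} {z z' : X.functionField} (hz : z ∈ P.space k m)
    (hz' : z' ∈ P.space k m') : z * z' ∈ P.space k (m + m') := by
  obtain ⟨a, b, rfl, hb⟩ := hz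
  obtain ⟨a', b', rfl, hb'⟩ := hz'
  refine ⟨a * a', b * b', map_mul _ _ _, ?_⟩
  rw [map_mul, pow_add, mul_mul_mul_comm, hb, hb']

namespace Hyper

variable (H : Hyper k P g)
include H

theorem aeval_injective : Function.Injective (Polynomial.aeval (R := k) P.T) :=
  transcendental_iff_injective.mp H.tr

theorem finrank_polys (m : ℕ) : Module.finrank k (P.polys k m) = m + 1 := by
  rw [Pencil.polys, ← (Submodule.equivMapOfInjective _ H.aeval_injective _).finrank_eq,
    (Polynomial.degreeLTEquiv k (m + 1)).finrank_eq, Module.finrank_fin_fun]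

theorem finrank_space_zero : Module.finrank k (P.space k 0) = 1 :=
  (P.finrank_space 0).trans H.const

theorem T_pow_succ_notMem (m : ℕ) : P.T ^ (m + 1) ∉ P.space k m := by
  rintro ⟨a, b, -, hb⟩
  have hne : P.T ≠ 0 := fun h0 => H.tr (h0 ▸ isAlgebraic_zero)
  have hT : P.T ∈ P.space k 0 := ⟨P.t, b, rfl, by
    rw [pow_zero, mul_one]
    exact mul_right_cancel₀ (pow_ne_zero m hne) (hb.trans (pow_succ' _ _))⟩
  haveI := P.finite_space (k := k) H.inv 0
  have h1 : P.polys k 0 = P.space k 0 :=
    Submodule.eq_of_le_of_finrank_eq (P.polys_le 0) (by rw [H.finrank_polys, H.finrank_space_zero])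
  rw [← h1] at hT
  obtain ⟨p, hp, hpT⟩ := hT
  have hp1 : p = Polynomial.X := H.aeval_injective (by
    rw [Polynomial.aeval_X]; exact hpT)
  rw [hp1, SetLike.mem_coe, Polynomial.mem_degreeLT, Polynomial.degree_X] at hp
  norm_num at hp

theorem finrank_space_succ (m : ℕ) :
    Module.finrank k (P.space k m) + 1 ≤ Module.finrank k (P.space k (m + 1)) := by
  haveI := P.finite_space (k := k) H.inv (m + 1)
  refine Submodule.finrank_lt_finrank_of_lt ((P.space_mono (Nat.le_succ m)).lt_of_not_ge fun h =>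
    H.T_pow_succ_notMem m (h (P.polys_le (m + 1) ⟨Polynomial.X ^ (m + 1), ?_, by simp⟩)))
  rw [SetLike.mem_coe, Polynomial.mem_degreeLT, Polynomial.degree_X_pow]
  exact_mod_cast Nat.lt_succ_self (m + 1)

theorem finrank_space_le {m : ℕ} (hm : m ≤ g) : Module.finrank k (P.space k m) = m + 1 := by
  haveI := P.finite_space (k := k) H.inv m
  refine le_antisymm ?_ ((H.finrank_polys m).symm.le.trans (Submodule.finrank_mono (P.polys_le m)))
  have h : ∀ j, Module.finrank k (P.space k m) + j ≤ Module.finrank k (P.space k (m + j)) := by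
    intro j
    induction j with
    | zero => simp
    | succ j ih =>
      have := H.finrank_space_succ (m + j)
      rw [← add_assoc m j 1]
      omega
  have h1 := h (g - m)
  rw [Nat.add_sub_cancel' hm, P.finrank_space g] at h1
  have := H.hh g le_rfl
  omega

theorem space_eq_polys {m : ℕ} (hm : m ≤ g) : P.space k m = P.polys k m :=
  haveI := P.finite_space (k := k) H.inv m
  (Submodule.eq_of_le_of_finrank_eq (P.polys_le m) (by rw [H.finrank_polys, H.finrank_space_le hm])).symm

theorem degree_le_of_mem {p : Polynomial k} {m : ℕ} (hp : Polynomial.aeval P.T p ∈ P.space k m) :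
    p.natDegree ≤ m := by
  by_contra hlt
  obtain ⟨d, hd⟩ : ∃ d, p.natDegree = d + 1 := ⟨p.natDegree - 1, by omega⟩
  refine H.T_pow_succ_notMem d ?_
  have h1 : Polynomial.aeval P.T p.eraseLead ∈ P.space k d := P.polys_le d ⟨p.eraseLead, by
    rw [SetLike.mem_coe, Polynomial.mem_degreeLT]
    refine (Polynomial.degree_le_natDegree).trans_lt ?_
    have := Polynomial.eraseLead_natDegree_le p
    exact_mod_cast (by omega : p.eraseLead.natDegree < d + 1), rfl⟩
  have h2 := sub_mem (P.space_mono (by omega : m ≤ d) hp) h1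
  rw [← map_sub, show p - p.eraseLead = Polynomial.C p.leadingCoeff * Polynomial.X ^ p.natDegree from
    sub_eq_of_eq_add' (Polynomial.eraseLead_add_C_mul_X_pow p).symm, hd, Polynomial.aeval_mul, Polynomial.aeval_C, map_pow,
    Polynomial.aeval_X, ← Algebra.smul_def] at h2
  have hc : p.leadingCoeff ≠ 0 := Polynomial.leadingCoeff_ne_zero.mpr fun h0 => by simp [h0] at hd
  rwa [Submodule.smul_mem_iff _ hc] at h2

theorem mem_space_of_mem (a : Γ(X, P.U0)) : ∃ m, gm P.mem0 a ∈ P.space k m := by
  have hval : TMul.val (TMul.homOf P.s0) P.U1 = P.t1 • res L (le_top : P.U1 ≤ ⊤) P.s1 := by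
    rw [TMul.val_homOf]; exact P.rel1
  have hb : P.U1 ⊓ P.U0 = X.basicOpen P.t1 := by
    rw [P.loc0]; exact TMul.genLocus_inf (TMul.homOf P.s0) P.gen1 hval
  have hle0 : X.basicOpen P.t1 ≤ P.U0 := by rw [← hb]; exact inf_le_right
  have hle1 : X.basicOpen P.t1 ≤ P.U1 := X.basicOpen_le _
  have hη : genericPoint X ∈ X.basicOpen P.t1 := by rw [← hb]; exact ⟨P.mem1, P.mem0⟩
  letI := (X.presheaf.map (homOfLE hle1).op).hom.toAlgebra
  haveI : IsLocalization.Away P.t1 Γ(X, X.basicOpen P.t1) := P.aff1.isLocalization_basicOpen P.t1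
  obtain ⟨n, b, hn⟩ := IsLocalization.Away.surj P.t1 (resO X hle0 a)
  refine ⟨n, a, b, rfl, ?_⟩
  have h := congrArg (gm hη) hn
  rw [map_mul, map_pow] at h
  change gm hη (resO X hle0 a) * gm hη (resO X hle1 P.t1) ^ n = gm hη (resO X hle1 b) at h
  rw [gm_resO, gm_resO, gm_resO] at h
  rw [← h, mul_assoc, ← mul_pow, P.gm_t1_mul_T, one_pow, mul_one]

theorem exists_y : ∃ y ∈ P.space k (g + 1), y ∉ P.polys k (g + 1) := by
  haveI := P.finite_space (k := k) H.inv (g + 1)
  refine SetLike.exists_of_lt ((P.polys_le (k := k) (g + 1)).lt_of_ne fun h => ?_)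
  have h1 := P.finrank_space (k := k) (g + 1)
  rw [← h, H.finrank_polys] at h1
  have := H.hh (g + 1) (Nat.le_succ g)
  omega

theorem notMem_range {y : X.functionField} {n : ℕ} (hy : y ∈ P.space k n) (hy' : y ∉ P.polys k n)
    {p q : Polynomial k} (hq : q ≠ 0) : Polynomial.aeval P.T q * y ≠ Polynomial.aeval P.T p := by
  intro heq
  refine hy' ?_
  haveI : IsIntegrallyClosed (Polynomial k) := inferInstance
  obtain ⟨a, b, ha, hb⟩ := hy
  obtain ⟨r, hr, hr0⟩ := H.int0 a
  -- `p / q` is integral over `k[X]`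
  let F := FractionRing (Polynomial k)
  let ι : F →+* X.functionField :=
    IsFractionRing.lift (A := Polynomial k) (g := (Polynomial.aeval (R := k) P.T).toRingHom) H.aeval_injective
  have hι : ∀ x, ι (algebraMap (Polynomial k) F x) = Polynomial.aeval P.T x := fun x =>
    IsFractionRing.lift_algebraMap _ x
  let w : F := algebraMap _ F p / algebraMap _ F q
  have hqF : algebraMap (Polynomial k) F q ≠ 0 := IsFractionRing.to_map_ne_zero_of_mem_nonZeroDivisors
    (mem_nonZeroDivisors_of_ne_zero hq)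
  have hqT : Polynomial.aeval P.T q ≠ 0 := (map_ne_zero_iff _ H.aeval_injective).mpr hq
  have hw : ι w = y := by
    rw [map_div₀, hι, hι, ← heq, mul_comm, mul_div_assoc, div_self hqT, mul_one]
  have hint : _root_.IsIntegral (Polynomial k) w := by
    refine ⟨r, hr, ι.injective ?_⟩
    rw [Polynomial.hom_eval₂, map_zero, hw, ← ha]
    have hc : ι.comp (algebraMap (Polynomial k) F) = (gm P.mem0).comp (Polynomial.eval₂RingHom (cst k X P.U0) P.t) :=
      RingHom.ext fun x => (hι x).trans (aeval_eq_gm x)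
    rw [hc, ← Polynomial.hom_eval₂, hr0, map_zero]
  obtain ⟨s, hs⟩ := IsIntegrallyClosed.isIntegral_iff.mp hint
  have hys : y = Polynomial.aeval P.T s := by rw [← hw, ← hs, hι]
  refine ⟨s, ?_, hys.symm⟩
  rw [SetLike.mem_coe, Polynomial.mem_degreeLT]
  refine Polynomial.degree_le_natDegree.trans_lt ?_
  have := H.degree_le_of_mem (show Polynomial.aeval P.T s ∈ P.space k n from hys ▸ ⟨a, b, ha, hb⟩)
  exact_mod_cast Nat.lt_succ_of_le this

/-- The normal form of the sections of the powers of the pencil. -/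
theorem exists_normal_form {y : X.functionField} (hy : y ∈ P.space k (g + 1)) (hy' : y ∉ P.polys k (g + 1))
    (m : ℕ) {z : X.functionField} (hz : z ∈ P.space k (g + 1 + m)) :
    ∃ p q : Polynomial k, p.natDegree ≤ g + 1 + m ∧ q.natDegree ≤ m ∧
      z = Polynomial.aeval P.T p + Polynomial.aeval P.T q * y := by
  haveI := P.finite_space (k := k) H.inv (g + 1 + m)
  let φ : Polynomial.degreeLT k (g + 1 + m + 1) × Polynomial.degreeLT k (m + 1) →ₗ[k] X.functionField :=
    ((Polynomial.aeval (R := k) P.T).toLinearMap.comp (Submodule.subtype _)).coprod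
      ((LinearMap.mulRight k y).comp ((Polynomial.aeval (R := k) P.T).toLinearMap.comp (Submodule.subtype _)))
  have hinj : Function.Injective φ := by
    rw [← LinearMap.ker_eq_bot, LinearMap.ker_eq_bot']
    rintro ⟨p, q⟩ h
    have h' : Polynomial.aeval P.T p.1 + Polynomial.aeval P.T q.1 * y = 0 := h
    by_cases hq : q.1 = 0
    · rw [hq, map_zero, zero_mul, add_zero] at h'
      exact Prod.ext (Subtype.ext (H.aeval_injective (h'.trans (map_zero _).symm))) (Subtype.ext hq)
    · exact absurd (eq_neg_of_add_eq_zero_right h') (by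
        rw [← map_neg]; exact H.notMem_range hy hy' hq)
  have hle : LinearMap.range φ ≤ P.space k (g + 1 + m) := by
    rintro _ ⟨⟨p, q⟩, rfl⟩
    refine add_mem (P.polys_le _ ⟨p.1, p.2, rfl⟩) ?_
    show Polynomial.aeval P.T q.1 * y ∈ _
    rw [add_comm (g + 1) m]
    exact P.space_mul (P.polys_le _ ⟨q.1, q.2, rfl⟩) hy
  have hr : LinearMap.range φ = P.space k (g + 1 + m) := by
    refine Submodule.eq_of_le_of_finrank_eq hle ?_
    rw [LinearMap.finrank_range_of_inj hinj, P.finrank_space, Module.finrank_prod,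
      (Polynomial.degreeLTEquiv k _).finrank_eq, (Polynomial.degreeLTEquiv k _).finrank_eq,
      Module.finrank_fin_fun, Module.finrank_fin_fun]
    have := H.hh (g + 1 + m) (by omega)
    omega
  rw [← hr] at hz
  obtain ⟨⟨p, q⟩, rfl⟩ := hz
  exact ⟨p.1, q.1, Nat.lt_succ_iff.mp (natDegree_lt_of_mem p.2), Nat.lt_succ_iff.mp (natDegree_lt_of_mem q.2), rfl⟩
where
  natDegree_lt_of_mem {n : ℕ} {p : Polynomial k} (hp : p ∈ Polynomial.degreeLT k (n + 1)) : p.natDegree < n + 1 := by
    by_cases h0 : p = 0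
    · simp [h0]
    · exact (Polynomial.natDegree_lt_iff_degree_lt h0).mpr (Polynomial.mem_degreeLT.mp hp)

theorem exists_normal_form_sections {y : X.functionField} (hy : y ∈ P.space k (g + 1))
    (hy' : y ∉ P.polys k (g + 1)) (a : Γ(X, P.U0)) :
    ∃ p q : Polynomial k, gm P.mem0 a = Polynomial.aeval P.T p + Polynomial.aeval P.T q * y := by
  obtain ⟨m, hm⟩ := H.mem_space_of_mem a
  obtain ⟨p, q, -, -, h⟩ := H.exists_normal_form hy hy' m (P.space_mono (Nat.le_add_left m (g + 1)) hm)
  exact ⟨p, q, h⟩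

/-- The equation. -/
theorem exists_equation {y : X.functionField} (hy : y ∈ P.space k (g + 1)) (hy' : y ∉ P.polys k (g + 1)) :
    ∃ p q : Polynomial k, p.natDegree ≤ 2 * g + 2 ∧ q.natDegree ≤ g + 1 ∧
      y ^ 2 + Polynomial.aeval P.T q * y = Polynomial.aeval P.T p := by
  obtain ⟨p, q, hp, hq, h⟩ := H.exists_normal_form hy hy' (g + 1) (z := y ^ 2) (by
    rw [sq]; exact P.space_mul hy hy)
  refine ⟨p, -q, by omega, by rw [Polynomial.natDegree_neg]; omega, ?_⟩
  rw [h, map_neg]; ring

omit H in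
theorem aeval_mul_t1_pow {p : Polynomial k} {n : ℕ} (hp : p.natDegree ≤ n) :
    ∃ b : Γ(X, P.U1), gm P.mem1 b * P.T ^ n = Polynomial.aeval P.T p := by
  obtain ⟨-, b, -, hb⟩ := P.polys_le (k := k) n ⟨p, by
    rw [SetLike.mem_coe, Polynomial.mem_degreeLT]
    exact Polynomial.degree_le_natDegree.trans_lt (by exact_mod_cast Nat.lt_succ_of_le hp), rfl⟩
  exact ⟨b, hb⟩

/-- The lower bound on the degrees of the equation. -/
theorem two_mul_genus_add_one_le {y : X.functionField} (hy : y ∈ P.space k (g + 1))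
    (hy' : y ∉ P.polys k (g + 1)) {p q : Polynomial k}
    (h : y ^ 2 + Polynomial.aeval P.T q * y = Polynomial.aeval P.T p) :
    2 * g + 1 ≤ max (2 * q.natDegree) p.natDegree := by
  by_contra hlt
  obtain ⟨bq, hbq⟩ := aeval_mul_t1_pow (P := P) (p := q) (n := g) (by omega)
  obtain ⟨bp, hbp⟩ := aeval_mul_t1_pow (P := P) (p := p) (n := 2 * g) (by omega)
  have hne : P.T ≠ 0 := fun h0 => H.tr (h0 ▸ isAlgebraic_zero)
  let w := y / P.T ^ g
  haveI : Nonempty P.U1 := ⟨⟨_, P.mem1⟩⟩
  haveI : IsIntegrallyClosed Γ(X, P.U1) := NormSect.isIntegrallyClosed_sections _ fun x _ => H.normal x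
  letI : Algebra Γ(X, P.U1) X.functionField := (gm P.mem1).toAlgebra
  haveI : IsFractionRing Γ(X, P.U1) X.functionField := functionField_isFractionRing_of_isAffineOpen X P.U1 P.aff1
  have hint : _root_.IsIntegral Γ(X, P.U1) w := by
    refine ⟨Polynomial.X ^ 2 + Polynomial.C bq * Polynomial.X + Polynomial.C (-bp), by monicity!, ?_⟩
    simp only [Polynomial.eval₂_add, Polynomial.eval₂_mul, Polynomial.eval₂_X_pow, Polynomial.eval₂_C,
      Polynomial.eval₂_X, RingHom.algebraMap_toAlgebra, map_neg, Polynomial.eval₂_neg, w]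
    rw [← hbq, ← hbp, pow_mul'] at h
    field_simp
    linear_combination h
  obtain ⟨b, hb⟩ := IsIntegrallyClosed.isIntegral_iff.mp hint
  have hyg : y ∈ P.space k g := by
    obtain ⟨a, -, ha, -⟩ := hy
    refine ⟨a, b, ha, ?_⟩
    rw [show gm P.mem1 b = w from hb]
    exact div_mul_cancel₀ y (pow_ne_zero g hne)
  rw [H.space_eq_polys le_rfl] at hyg
  obtain ⟨s, hs, hsy⟩ := hyg
  refine H.notMem_range hy hy' (p := s) one_ne_zero ?_
  rw [map_one, one_mul]
  exact hsy.symm

end Hyper

end Groth.Agent.W7Pencil
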