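import Groth.Agent.W7Pencil.FieldDeg

/-!
# A curve of genus at least two has one pencil of degree two
-/

set_option autoImplicit false
set_option linter.style.haveILetI false
set_option backward.isDefEq.respectTransparency false

universe u

open CategoryTheory CategoryTheory.Limits AlgebraicGeometry TopologicalSpace
open Groth.Agent Groth.Agent.CohFinite Groth.Agent.CurveRR
open Groth.Agent.QC (res resO res_res res_smul resO_resO res_self)
open TMul (IsGen pw tm)

noncomputable section

namespace Groth.Agent.W7Pencil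

attribute [local instance] secMod Curv2.stalkAlgebra

variable {k : Type u} [Field k] {X : Scheme.{u}} [IsIntegral X] [X.Over (Spec (CommRingCat.of k))]
  [IsProper (X ↘ Spec (CommRingCat.of k))]

theorem T_mem_adjoin {L L' : X.Modules} {P : Pencil L} (P' : Pencil L') (hL' : PicF.IsInvertible L') {g : ℕ}
    (hg : 2 ≤ g) (H : Hyper k P g)
    (hA : h k (CohB1.tensorMod L' (CohB1.tensorPow L (g - 1))) 0 = g + 1) :
    P'.T ∈ IntermediateField.adjoin k ({P.T} : Set X.functionField) := by
  by_contra hT
  haveI := isNoetherian_of_proper k X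
  set m := g - 1 with hm
  let A := CohB1.tensorMod L' (CohB1.tensorPow L m)
  have hAi : PicF.IsInvertible A := TMul.isInvertible_tensorMod hL' (TMul.isInvertible_tensorPow H.inv m)
  haveI := finite_proper k X _ (isCoh_of_inv hAi) 0
  haveI : Module.Finite k Γ(A, ⊤) := Module.Finite.equiv (secH0 (k := k) A).symm
  haveI := finite_proper k X _ (isCoh_of_inv (TMul.isInvertible_tensorPow H.inv m)) 0
  haveI : Module.Finite k Γ(CohB1.tensorPow L m, ⊤) :=
    Module.Finite.equiv (secH0 (k := k) (CohB1.tensorPow L m)).symm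
  let ψ : Γ(CohB1.tensorPow L m, ⊤) × Γ(CohB1.tensorPow L m, ⊤) →ₗ[k] Γ(A, ⊤) :=
    { toFun := fun σ => tm P'.s0 σ.1 + tm P'.s1 σ.2
      map_add' := fun σ σ' => by
        simp only [Prod.fst_add, Prod.snd_add, TMul.add_tm]
        abel
      map_smul' := fun c σ => by
        show tm P'.s0 (cst k X ⊤ c • σ.1) + tm P'.s1 (cst k X ⊤ c • σ.2) = cst k X ⊤ c • (_ + _)
        rw [TMul.tm_smul, TMul.tm_smul, smul_add] }
  let W := P.U0 ⊓ P'.U0
  have hW : genericPoint X ∈ W := ⟨P.mem0, P'.mem0⟩
  have hgenW : IsGen (tm (res L' (le_top : W ≤ ⊤) P'.s0) (pw (res L (le_top : W ≤ ⊤) P.s0) m)) := by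
    refine TMul.isGen_tm ?_ ?_
    · have := P'.gen0.res (inf_le_right : W ≤ P'.U0)
      rwa [res_res] at this
    · have := P.gen0.res (inf_le_left : W ≤ P.U0)
      rw [res_res] at this
      exact TMul.isGen_pw this m
  have hmem : ∀ σ, P.toFF k m σ ∈ IntermediateField.adjoin k ({P.T} : Set X.functionField) := fun σ => by
    have h1 : P.toFF k m σ ∈ P.polys k m := by
      rw [← H.space_eq_polys (by omega), ← P.range_toFF]
      exact LinearMap.mem_range_self _ σ
    obtain ⟨p, -, hp⟩ := h1
    rw [← hp]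
    exact IntermediateField.algebra_adjoin_le_adjoin k _ (Polynomial.aeval_mem_adjoin_singleton k P.T)
  have hres : ∀ σ, res (CohB1.tensorPow L m) (le_top : W ≤ ⊤) σ =
      resO X (inf_le_left : W ≤ P.U0) (P.coef0 m σ) • pw (res L (le_top : W ≤ ⊤) P.s0) m := fun σ => by
    rw [← res_res _ (inf_le_left : W ≤ P.U0) le_top σ, ← P.coef0_spec m σ, res_smul, TMul.res_pw, res_res]
  have hψ : Function.Injective ψ := by
    rw [← LinearMap.ker_eq_bot, LinearMap.ker_eq_bot']
    rintro ⟨σ, σ'⟩ h
    have h0 : res A (le_top : W ≤ ⊤) (tm P'.s0 σ + tm P'.s1 σ') = 0 := by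
      rw [show tm P'.s0 σ + tm P'.s1 σ' = 0 from h, map_zero]
    rw [map_add, TMul.res_tm, TMul.res_tm, hres, hres,
      show res L' (le_top : W ≤ ⊤) P'.s1 = resO X (inf_le_right : W ≤ P'.U0) P'.t • res L' le_top P'.s0 by
        rw [← res_res L' (inf_le_right : W ≤ P'.U0) le_top P'.s0, ← res_smul, ← P'.rel, res_res],
      TMul.tm_smul, TMul.smul_tm, TMul.tm_smul, smul_smul, ← add_smul] at h0
    have h1 := (hgenW W le_rfl).1 (a₁ := _) (a₂ := 0) (by simp only [res_self, zero_smul]; exact h0)
    have h2 := congrArg (gm hW) h1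
    rw [map_add, map_mul, map_zero, gm_resO, gm_resO, gm_resO] at h2
    change P.toFF k m σ + _ = 0 at h2
    have h3 : P.toFF k m σ + P'.T * P.toFF k m σ' = 0 := by
      refine Eq.trans ?_ h2
      show _ = P.toFF k m σ + _
      rfl
    have hσ' : P.toFF k m σ' = 0 := by
      by_contra hne
      refine hT ?_
      rw [show P'.T = -P.toFF k m σ / P.toFF k m σ' by
        rw [eq_div_iff hne]; linear_combination h3]
      exact div_mem (neg_mem (hmem σ)) (hmem σ')
    rw [hσ', mul_zero, add_zero] at h3
    exact Prod.ext (P.toFF_injective m (h3.trans (map_zero _).symm)) (P.toFF_injective m (hσ'.trans (map_zero _).symm))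
  have hle := LinearMap.finrank_le_finrank_of_injective hψ
  rw [Module.finrank_prod, finrank_sec, finrank_sec, hA, ← P.finrank_space, H.finrank_space_le (by omega)] at hle
  omega

/-- The rational function fields of two double covers of the line coincide in genus at least two. -/
theorem adjoin_eq_of_two_covers [IsIntegral (CohB1.ProjSpace 1 k)] [Smooth (X ↘ Spec (CommRingCat.of k))]
    (hdim : topologicalKrullDim X = 1) (h0 : h k (Coh.structureModule X) 0 = 1) {g : ℕ} (hg : Curv2.genus k X = g)
    (hg2 : 2 ≤ g) (f f' : X ⟶ CohB1.ProjSpace 1 k) [IsFinite f] [IsFinite f']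
    (hf : f ≫ CohB1.ProjSpace.toSpec 1 k = X ↘ Spec (CommRingCat.of k))
    (hf' : f' ≫ CohB1.ProjSpace.toSpec 1 k = X ↘ Spec (CommRingCat.of k))
    (e : f (genericPoint X) = genericPoint (CohB1.ProjSpace 1 k))
    (e' : f' (genericPoint X) = genericPoint (CohB1.ProjSpace 1 k))
    (hr : f.residueDegree (genericPoint X) = 2) (hr' : f'.residueDegree (genericPoint X) = 2) :
    IntermediateField.adjoin k ({(pencilOf f e).T} : Set X.functionField) =
      IntermediateField.adjoin k ({(pencilOf f' e').T} : Set X.functionField) := by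
  have key : ∀ (f f' : X ⟶ CohB1.ProjSpace 1 k) [IsFinite f] [IsFinite f']
      (_ : f ≫ CohB1.ProjSpace.toSpec 1 k = X ↘ Spec (CommRingCat.of k))
      (_ : f' ≫ CohB1.ProjSpace.toSpec 1 k = X ↘ Spec (CommRingCat.of k))
      (e : f (genericPoint X) = genericPoint (CohB1.ProjSpace 1 k))
      (e' : f' (genericPoint X) = genericPoint (CohB1.ProjSpace 1 k)),
      f.residueDegree (genericPoint X) = 2 → f'.residueDegree (genericPoint X) = 2 →
      IntermediateField.adjoin k ({(pencilOf f' e').T} : Set X.functionField) ≤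
        IntermediateField.adjoin k ({(pencilOf f e).T} : Set X.functionField) := by
    intro f f' _ _ hf hf' e e' hr hr'
    have H := hyper_of_cover f hdim h0 hg hf e hr
    have hL' := CurveVA.isInvertible_O1 f'
    have hpow := TMul.isInvertible_tensorPow H.inv (g - 1)
    have hd : Curv2.deg k X (CohB1.tensorMod (CurveVA.O1 f') (CohB1.tensorPow (CurveVA.O1 f) (g - 1))) 1 =
        2 * g := by
      rw [deg_tensor_inv hdim.le hL' hpow, deg_tensorPow hdim.le H.inv, (deg_O1_of_cover f hdim hf).2,
        (deg_O1_of_cover f' hdim hf').2, hr, hr']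
      push_cast [Nat.cast_sub (by omega : 1 ≤ g)]
      ring
    have hA := h0_eq_of_deg hdim.le h0 (TMul.isInvertible_tensorMod hL' hpow) (by omega)
    exact IntermediateField.adjoin_le_iff.mpr (Set.singleton_subset_iff.mpr
      (T_mem_adjoin (pencilOf f' e') hL' hg2 H (by omega)))
  exact le_antisymm (key f' f hf' hf e' e hr' hr) (key f f' hf hf' e e' hr hr')

end Groth.Agent.W7Pencil
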